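import Cfsg.Agent.ThreeTransposition.UnitaryRadical.Abelian
import Cfsg.Prelude.Def_Solvable

/-!
# Passing from the matrix group to the isometry group
-/

set_option autoImplicit false
set_option linter.unusedSectionVars false

namespace Cfsg.Lib.TTUnitary

open Cfsg.Lib.Classical Subgroup

universe u w

variable {F : Type u} [Field F] [Fintype F]

/-- The standard space over the field with four elements. -/
theorem four_std (hF : Fintype.card F = 4) (n : ℕ) (hF' : Fintype.card F = 2 ^ 2) :
    Four (stdHerm n hF') := by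
  refine ⟨?_, fun a ha => ?_⟩
  · obtain ⟨p, hp⟩ := CharP.exists F
    obtain ⟨m, hpp, hm⟩ := FiniteField.card F p
    rw [hF] at hm
    have hp2 : p = 2 := by
      have hd : p ∣ 2 ^ 2 := by
        rw [show 2 ^ 2 = 4 by norm_num, hm]; exact dvd_pow_self p m.ne_zero
      exact (Nat.prime_dvd_prime_iff_eq hpp Nat.prime_two).mp (hpp.dvd_of_dvd_pow hd)
    subst hp2
    exact_mod_cast CharP.cast_eq_zero F 2
  · show a * powConj hF' a = 1
    rw [powConj_apply, ← pow_succ', show 2 + 1 = Fintype.card F - 1 by omega]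
    exact FiniteField.pow_card_sub_one_eq_one a ha

variable {G : Type w} [Group G] [Finite G] {D : Set G}

/-- The quotient data for `G / O₂(G) ≅ SU_n(2)`. -/
theorem exists_quot (hD : Cfsg.IsThreeTranspositionClass D) (hZ : center G = ⊥) {n : ℕ} (hn : n = 5 ∨ n = 7)
    (hF : Fintype.card F = 4) (hF' : Fintype.card F = 2 ^ 2) [(Cfsg.pCore 2 G).Normal]
    (e : G ⧸ Cfsg.pCore 2 G ≃* ↥(Cfsg.SU n F 2)) :
    ∃ ψ : G →* (stdHerm n hF').SIsom,
      ψ.ker = Cfsg.pCore 2 G ∧ Quot (four_std hF n hF') ψ D := by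
  let ψ : G →* (stdHerm n hF').SIsom :=
    (e.trans (suEquiv n hF').symm).toMonoidHom.comp (QuotientGroup.mk' (Cfsg.pCore 2 G))
  have hker : ψ.ker = Cfsg.pCore 2 G := by
    rw [MonoidHom.ker_comp_of_injective _ _ (MulEquiv.injective _), QuotientGroup.ker_mk']
  refine ⟨ψ, hker, hD, ?_, ?_, hZ, by rw [Module.finrank_fin_fun]; exact hn⟩
  · exact (e.trans (suEquiv n hF').symm).surjective.comp (QuotientGroup.mk'_surjective _)
  · rw [hker]; exact Cfsg.Lib.Components.isPGroup_pCore 2

end Cfsg.Lib.TTUnitary
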