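import Cfsg.Agent.Classical.Unitary.ThreeTransposition

/-!
# Unitary spaces over the field with four elements

Transvections with parameter one, their connectivity, and the fact that an involution all whose
conjugates give products of order at most three with it is a transvection.
-/

set_option autoImplicit false
set_option linter.unusedSectionVars false

namespace Cfsg.Lib.TTUnitary

open Cfsg.Lib.Classical

universe u v

variable {F : Type u} [Field F] {V : Type v} [AddCommGroup V] [Module F V]

/-- The field of the space has four elements: characteristic two, and every nonzero scalar has norm one. -/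
structure Four (H : HermSpace F V) : Prop where
  two : (2 : F) = 0
  norm : ∀ a : F, a ≠ 0 → a * H.σ a = 1

variable {H : HermSpace F V}

namespace Four

theorem add_self (hq : Four H) (a : F) : a + a = 0 := by linear_combination a * hq.two

theorem vadd_self (hq : Four H) (x : V) : x + x = 0 := by
  rw [← one_smul F x, ← add_smul, hq.add_self, zero_smul]

theorem vadd_cancel (hq : Four H) (x y : V) : x + y + y = x := by rw [add_assoc, hq.vadd_self, add_zero]

theorem eq_of_vadd (hq : Four H) {x y : V} (h : x + y = 0) : x = y := by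
  rw [← hq.vadd_cancel x y, h, zero_add]

theorem eq_of_add (hq : Four H) {a b : F} (h : a + b = 0) : a = b := by linear_combination h - b * hq.two

theorem one_skew (hq : Four H) : (1 : F) + H.σ 1 = 0 := by rw [map_one]; exact hq.add_self 1

theorem fixed_cases (hq : Four H) {a : F} (h : H.σ a = a) : a = 0 ∨ a = 1 := by
  by_cases ha : a = 0
  · exact Or.inl ha
  · have h1 := hq.norm a ha
    rw [h] at h1
    have : (a + 1) * (a + 1) = 0 := by linear_combination h1 + (a + 1) * hq.two
    exact Or.inr (hq.eq_of_add (mul_self_eq_zero.mp this))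

theorem self_cases (hq : Four H) (x : V) : H.h x x = 0 ∨ H.h x x = 1 := hq.fixed_cases (H.self_fixed x)

theorem h_smul_smul (hq : Four H) {a : F} (ha : a ≠ 0) (x y : V) : H.h (a • x) (a • y) = H.h x y := by
  rw [H.smul_left, H.smul_right, ← mul_assoc, hq.norm a ha, one_mul]

theorem norm_flip (hq : Four H) {a : F} (ha : a ≠ 0) : H.σ a * a = 1 := by rw [mul_comm]; exact hq.norm a ha

end Four

open _root_.Classical in
/-- The transvection `x ↦ x + h(x,v) v` at an isotropic vector `v`. -/
noncomputable def tv (hq : Four H) (v : V) : H.SIsom :=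
  if hv : H.h v v = 0 then H.sT hv hq.one_skew else 1

variable (hq : Four H)
include hq

theorem tv_apply {v : V} (hv : H.h v v = 0) (x : V) : (tv hq v).1.1 x = x + H.h x v • v := by
  rw [tv, dif_pos hv, H.sT_apply, one_mul]

theorem tv_fix {v x : V} (hv : H.h v v = 0) (hx : H.h x v = 0) : (tv hq v).1.1 x = x := by
  rw [tv_apply hq hv, hx, zero_smul, add_zero]

theorem tv_move {v x : V} (hv : H.h v v = 0) (hx : H.h x v = 1) : (tv hq v).1.1 x = x + v := by
  rw [tv_apply hq hv, hx, one_smul]

theorem tv_sq {v : V} (hv : H.h v v = 0) : tv hq v * tv hq v = 1 :=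
  H.sisom_ext fun x => by
    rw [H.smul_mul_apply, tv_apply hq hv, tv_apply hq hv, H.add_left, H.smul_left, hv, mul_zero, add_zero,
      hq.vadd_cancel]
    rfl

theorem tv_inv {v : V} (hv : H.h v v = 0) : (tv hq v)⁻¹ = tv hq v := inv_eq_of_mul_eq_one_left (tv_sq hq hv)

theorem tv_conj (g : H.SIsom) {v : V} (hv : H.h v v = 0) : g * tv hq v * g⁻¹ = tv hq (g.1.1 v) := by
  rw [tv, tv, dif_pos hv, dif_pos (by rw [H.map_form, hv]), H.sT_conj]

theorem tv_smul {v : V} (hv : H.h v v = 0) {a : F} (ha : a ≠ 0) : tv hq (a • v) = tv hq v := by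
  have hav : H.h (a • v) (a • v) = 0 := by rw [hq.h_smul_smul ha, hv]
  refine H.sisom_ext fun x => ?_
  rw [tv_apply hq hav, tv_apply hq hv, H.smul_right, smul_smul, mul_right_comm, hq.norm_flip ha, one_mul]

theorem tv_commute_of_fix (g : H.SIsom) {v : V} (hv : H.h v v = 0) (hg : g.1.1 v = v) :
    Commute g (tv hq v) := by
  have := tv_conj hq g hv
  rw [hg] at this
  exact mul_inv_eq_iff_eq_mul.mp this

theorem tv_commute {v w : V} (hv : H.h v v = 0) (hw : H.h w w = 0) (h : H.h w v = 0) :
    Commute (tv hq v) (tv hq w) := tv_commute_of_fix hq _ hw (tv_fix hq hv h)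

theorem tv_third {v w : V} (hv : H.h v v = 0) (hw : H.h w w = 0) (h : H.h w v = 1) :
    tv hq v * tv hq w * tv hq v = tv hq (w + v) := by
  rw [show tv hq v * tv hq w * tv hq v = tv hq v * tv hq w * (tv hq v)⁻¹ by rw [tv_inv hq hv],
    tv_conj hq _ hw, tv_move hq hv h]

theorem tv_ne_one [Finite F] [FiniteDimensional F V] {v : V} (hv0 : v ≠ 0) (hv : H.h v v = 0) :
    tv hq v ≠ 1 := fun e => by
  obtain ⟨u, hu⟩ := H.exists_partner hv0
  have h1 : (tv hq v).1.1 u = u := by rw [e]; rfl
  rw [tv_apply hq hv, add_eq_left, H.symm, hu, map_one, one_smul] at h1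
  exact hv0 h1

theorem mem_oneTransv {t : H.SIsom} : t ∈ H.oneTransv ↔ ∃ v, v ≠ 0 ∧ H.h v v = 0 ∧ t = tv hq v := by
  constructor
  · rintro ⟨v, hv0, hv, ht⟩
    exact ⟨v, hv0, hv, H.sisom_ext fun x => by rw [tv_apply hq hv, ht]⟩
  · rintro ⟨v, hv0, hv, rfl⟩
    exact ⟨v, hv0, hv, tv_apply hq hv⟩

omit hq

/-! ### Nondegenerate subspaces -/

/-- The part of `U` orthogonal to a pair. -/
def perp2 (H : HermSpace F V) (U : Submodule F V) (a b : V) : Submodule F V :=
  U ⊓ H.orth (Submodule.span F ({a, b} : Set V))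

/-- The part of `U` orthogonal to a vector. -/
def perp1 (H : HermSpace F V) (U : Submodule F V) (v : V) : Submodule F V :=
  U ⊓ H.orth (Submodule.span F ({v} : Set V))

theorem mem_perp2 {U : Submodule F V} {a b x : V} :
    x ∈ perp2 H U a b ↔ x ∈ U ∧ H.h x a = 0 ∧ H.h x b = 0 := by
  simp [perp2, H.mem_orth_span]

theorem mem_perp1 {U : Submodule F V} {v x : V} : x ∈ perp1 H U v ↔ x ∈ U ∧ H.h x v = 0 := by
  simp [perp1, H.mem_orth_span]

/-- A hyperbolic pair in a nondegenerate subspace. -/
structure Pair (H : HermSpace F V) (U : Submodule F V) (a b : V) : Prop where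
  mem_left : a ∈ U
  mem_right : b ∈ U
  iso_left : H.h a a = 0
  iso_right : H.h b b = 0
  prod : H.h a b = 1

namespace Pair

variable {U : Submodule F V} {a b : V}

theorem flip (p : Pair H U a b) : H.h b a = 1 := by rw [H.symm, p.prod, map_one]

theorem ne_zero (p : Pair H U a b) : a ≠ 0 := fun e => by
  have := p.prod
  rw [e, H.zero_left] at this
  exact zero_ne_one this

theorem swap (p : Pair H U a b) : Pair H U b a :=
  ⟨p.mem_right, p.mem_left, p.iso_right, p.iso_left, p.flip⟩

include hq in
theorem proj_mem (p : Pair H U a b) {x : V} (hx : x ∈ U) :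
    x + H.h x b • a + H.h x a • b ∈ perp2 H U a b := by
  refine mem_perp2.mpr ⟨U.add_mem (U.add_mem hx (U.smul_mem _ p.mem_left)) (U.smul_mem _ p.mem_right), ?_, ?_⟩
  · rw [H.add_left, H.add_left, H.smul_left, H.smul_left, p.iso_left, p.flip, mul_zero, add_zero, mul_one]
    exact hq.add_self _
  · rw [H.add_left, H.add_left, H.smul_left, H.smul_left, p.iso_right, p.prod, mul_zero, add_zero, mul_one]
    exact hq.add_self _

include hq in
theorem decomp (p : Pair H U a b) (x : V) :
    x = x + H.h x b • a + H.h x a • b + (H.h x b • a + H.h x a • b) := by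
  rw [add_assoc x, hq.vadd_cancel]

include hq in
theorem nondeg (p : Pair H U a b) (hU : H.NondegOn U) : H.NondegOn (perp2 H U a b) := by
  intro z hz h
  obtain ⟨hzU, hza, hzb⟩ := mem_perp2.mp hz
  refine hU z hzU fun x hx => ?_
  rw [p.decomp hq x, H.add_left, h _ (p.proj_mem hq hx), H.add_left, H.smul_left, H.smul_left,
    H.eq_zero_symm hza, H.eq_zero_symm hzb, mul_zero, mul_zero, add_zero, add_zero]

include hq in
theorem finrank [FiniteDimensional F V] (p : Pair H U a b) :
    Module.finrank F (perp2 H U a b) + 2 = Module.finrank F U := by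
  have h1 := H.finrank_hyperbolic p.iso_left p.prod
  have hd : Submodule.span F ({a, b} : Set V) ⊓ perp2 H U a b = ⊥ := by
    rw [eq_bot_iff]
    rintro x ⟨hx, hx'⟩
    obtain ⟨c, d, rfl⟩ := Submodule.mem_span_pair.mp hx
    obtain ⟨-, e1, e2⟩ := mem_perp2.mp hx'
    rw [H.add_left, H.smul_left, H.smul_left, p.iso_left, p.flip, mul_zero, zero_add, mul_one] at e1
    rw [H.add_left, H.smul_left, H.smul_left, p.prod, p.iso_right, mul_one, mul_zero, add_zero] at e2
    simp [e1, e2]
  have hs : Submodule.span F ({a, b} : Set V) ⊔ perp2 H U a b = U := by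
    refine le_antisymm (sup_le ?_ inf_le_left) fun x hx => ?_
    · rw [Submodule.span_le]
      rintro x (rfl | rfl)
      exacts [p.mem_left, p.mem_right]
    · rw [p.decomp hq x, add_comm]
      exact Submodule.add_mem_sup (Submodule.add_mem _ (Submodule.smul_mem _ _ (Submodule.subset_span (by simp)))
        (Submodule.smul_mem _ _ (Submodule.subset_span (by simp)))) (p.proj_mem hq hx)
  have h2 := Submodule.finrank_sup_add_finrank_inf_eq (Submodule.span F ({a, b} : Set V)) (perp2 H U a b)
  rw [hs, hd, finrank_bot, h1] at h2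
  omega

end Pair

variable [Finite F] [FiniteDimensional F V]

theorem exists_pair {U : Submodule F V} (hU : H.NondegOn U) {a : V} (haU : a ∈ U) (ha0 : a ≠ 0)
    (ha : H.h a a = 0) : ∃ b, Pair H U a b := by
  obtain ⟨b, hb, hbb⟩ := (H.restrict U hU).exists_hyperbolic (v := ⟨a, haU⟩)
    (fun e => ha0 (congrArg Subtype.val e)) ha
  exact ⟨b.1, haU, b.2, ha, hbb, hb⟩

theorem exists_iso {U : Submodule F V} (hU : H.NondegOn U) (hd : 2 ≤ Module.finrank F U) :
    ∃ a ∈ U, a ≠ 0 ∧ H.h a a = 0 := by
  obtain ⟨a, ha0, ha⟩ := (H.restrict U hU).exists_isotropic_of_two_le hd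
  exact ⟨a.1, a.2, fun e => ha0 (Subtype.ext e), ha⟩

theorem exists_unit {U : Submodule F V} (hU : H.NondegOn U) (hd : 1 ≤ Module.finrank F U) :
    ∃ z ∈ U, H.h z z = 1 := by
  haveI : Nontrivial U := Module.nontrivial_of_finrank_pos (R := F) (by omega)
  obtain ⟨z, hz⟩ := (H.restrict U hU).exists_norm_one
  exact ⟨z.1, z.2, hz⟩

include hq in
theorem perp1_nondeg {U : Submodule F V} (hU : H.NondegOn U) {w : V} (hw : w ∈ U) (hww : H.h w w = 1) :
    H.NondegOn (perp1 H U w) := by
  intro z hz h
  obtain ⟨hzU, hzw⟩ := mem_perp1.mp hz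
  refine hU z hzU fun x hx => ?_
  have hm : x + H.h x w • w ∈ perp1 H U w := mem_perp1.mpr ⟨U.add_mem hx (U.smul_mem _ hw), by
    rw [H.add_left, H.smul_left, hww, mul_one]; exact hq.add_self _⟩
  rw [← hq.vadd_cancel x (H.h x w • w), H.add_left, h _ hm, H.smul_left, H.eq_zero_symm hzw, mul_zero,
    add_zero]

include hq in
theorem perp1_finrank {U : Submodule F V} {w : V} (hw : w ∈ U) (hww : H.h w w = 1) :
    Module.finrank F (perp1 H U w) + 1 = Module.finrank F U := by
  have hw0 : w ≠ 0 := fun e => by rw [e, H.zero_left] at hww; exact zero_ne_one hww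
  have hd : Submodule.span F ({w} : Set V) ⊓ perp1 H U w = ⊥ := by
    rw [eq_bot_iff]
    rintro x ⟨hx, hx'⟩
    obtain ⟨c, rfl⟩ := Submodule.mem_span_singleton.mp hx
    obtain ⟨-, e1⟩ := mem_perp1.mp hx'
    rw [H.smul_left, hww, mul_one] at e1
    simp [e1]
  have hs : Submodule.span F ({w} : Set V) ⊔ perp1 H U w = U := by
    refine le_antisymm (sup_le ((Submodule.span_singleton_le_iff_mem _ _).mpr hw) inf_le_left) fun x hx => ?_
    rw [← hq.vadd_cancel x (H.h x w • w), add_comm]
    exact Submodule.add_mem_sup (Submodule.smul_mem _ _ (Submodule.mem_span_singleton_self w))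
      (mem_perp1.mpr ⟨U.add_mem hx (U.smul_mem _ hw), by
        rw [H.add_left, H.smul_left, hww, mul_one]; exact hq.add_self _⟩)
  have h2 := Submodule.finrank_sup_add_finrank_inf_eq (Submodule.span F ({w} : Set V)) (perp1 H U w)
  rw [hs, hd, finrank_bot, finrank_span_singleton hw0] at h2
  omega

include hq in
/-- An isotropic vector with prescribed product against a nonzero vector. -/
theorem exists_iso_prod {U : Submodule F V} (hU : H.NondegOn U) (hd : 2 ≤ Module.finrank F U) {w : V}
    (hw : w ∈ U) (hw0 : w ≠ 0) (k : F) : ∃ z ∈ U, H.h z z = 0 ∧ H.h z w = k := by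
  suffices ∃ z ∈ U, H.h z z = 0 ∧ H.h z w = 1 by
    obtain ⟨z, hz, hzz, hzw⟩ := this
    refine ⟨k • z, U.smul_mem _ hz, ?_, by rw [H.smul_left, hzw, mul_one]⟩
    rw [H.smul_left, H.smul_right, hzz, mul_zero, mul_zero]
  rcases hq.self_cases w with h | h
  · obtain ⟨z, p⟩ := exists_pair hU hw hw0 h
    exact ⟨z, p.mem_right, p.iso_right, p.flip⟩
  · obtain ⟨u, hu, huu⟩ := exists_unit (perp1_nondeg hq hU hw h)
      (by have := perp1_finrank hq (U := U) hw h; omega)
    obtain ⟨huU, huw⟩ := mem_perp1.mp hu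
    refine ⟨w + u, U.add_mem hw huU, ?_, by rw [H.add_left, h, huw, add_zero]⟩
    rw [H.add_left, H.add_right, H.add_right, h, huu, huw, H.eq_zero_symm huw]
    linear_combination hq.two

include hq in
/-- Every transvection is reached from those commuting with one of two non-commuting ones. -/
theorem connect {U : Submodule F V} (hU : H.NondegOn U) (hd : 4 ≤ Module.finrank F U) {a b c : V}
    (haU : a ∈ U) (hbU : b ∈ U) (hcU : c ∈ U) (ha : H.h a a = 0) (hb : H.h b b = 0) (hc : H.h c c = 0)
    (hab : H.h a b ≠ 0) (hc0 : c ≠ 0) :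
    (H.h c a = 0 ∨ H.h c b = 0) ∨ ∃ d e, H.h d d = 0 ∧ H.h e e = 0 ∧ d ≠ 0 ∧ e ≠ 0 ∧
      (H.h d a = 0 ∨ H.h d b = 0) ∧ (H.h e a = 0 ∨ H.h e b = 0) ∧
      tv hq c = tv hq d * tv hq e * tv hq d := by
  by_cases hca : H.h c a = 0
  · exact Or.inl (Or.inl hca)
  by_cases hcb : H.h c b = 0
  · exact Or.inl (Or.inr hcb)
  refine Or.inr ?_
  set b' := H.h a b • b with hb'
  have hb'' : H.h b' b' = 0 := by rw [hb', hq.h_smul_smul hab, hb]
  have p : Pair H U a b' := ⟨haU, U.smul_mem _ hbU, ha, hb'', by
    rw [hb', H.smul_right, hq.norm_flip hab]⟩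
  have hzero : ∀ d, H.h d b' = 0 → H.h d b = 0 := by
    intro d h
    rw [hb', H.smul_right, mul_eq_zero] at h
    exact h.resolve_left fun e => hab (H.conj.eq_zero.mp e)
  have hb0 : b ≠ 0 := fun e => hab (by rw [e, H.zero_right])
  set α := H.h c b' with hα
  set β := H.h c a with hβ
  have hα0 : α ≠ 0 := fun e => hcb (hzero c e)
  by_cases hw : c + α • a + β • b' = 0
  · have hc' : c = α • a + β • b' := hq.eq_of_vadd (by rwa [← add_assoc])
    have hαβ : α = β := by
      have h0 := hc
      rw [hc', H.add_left, H.add_right, H.add_right, H.smul_left, H.smul_right, ha, H.smul_left,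
        H.smul_right, p.prod, H.smul_left, H.smul_right, p.flip, H.smul_left, H.smul_right, hb''] at h0
      have h1 : α * H.σ β + β * H.σ α = 0 := by linear_combination h0
      have h2 := hq.norm α hα0
      have h3 := hq.norm β hca
      have h4 : α * α = β * β := by
        linear_combination (α * β) * h1 - (α * α) * h3 - (β * β) * h2 - (β * β) * hq.two
      have h5 : (α + β) * (α + β) = 0 := by linear_combination h4 + (α * β + β * β) * hq.two
      exact hq.eq_of_add (mul_self_eq_zero.mp h5)
    refine ⟨a, b', ha, hb'', p.ne_zero, p.swap.ne_zero, Or.inl ha, Or.inr ?_, ?_⟩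
    · rw [hb', H.smul_left, hb, mul_zero]
    · rw [tv_third hq ha hb'' p.flip, hc', ← hαβ, ← smul_add, tv_smul hq ?_ hα0, add_comm]
      rw [H.add_left, H.add_right, H.add_right, ha, hb'', p.prod, p.flip]
      linear_combination hq.two
  · have hwm : c + α • a + β • b' ∈ perp2 H U a b' := p.proj_mem hq hcU
    obtain ⟨z, hz, hzz, hzw⟩ := exists_iso_prod hq (p.nondeg hq hU)
      (by have := p.finrank hq; omega) hwm hw (1 + α * H.σ β)
    obtain ⟨hzU, hza, hzb⟩ := mem_perp2.mp hz
    set d := α • a + z with hd'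
    have hdd : H.h d d = 0 := by
      rw [hd', H.add_left, H.add_right, H.add_right, H.smul_left, H.smul_right, ha, H.smul_left,
        H.eq_zero_symm hza, H.smul_right, hza, hzz]
      ring
    have hdc : H.h d c = 1 := by
      have hzc : H.h z c = 1 + α * H.σ β := by
        rw [← hzw, H.add_right, H.add_right, H.smul_right, H.smul_right, hza, hzb, mul_zero, mul_zero,
          add_zero, add_zero]
      rw [hd', H.add_left, H.smul_left, hzc, H.symm a c, ← hβ]
      linear_combination (α * H.σ β) * hq.two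
    clear_value d
    have hcd : H.h c d = 1 := by rw [H.symm, hdc, map_one]
    refine ⟨d, c + d, hdd, ?_, fun e => ?_, fun e => ?_, Or.inl ?_, Or.inr (hzero _ ?_), ?_⟩
    · rw [H.add_left, H.add_right, H.add_right, hc, hdd, hdc, hcd]; linear_combination hq.two
    · rw [e, H.zero_left] at hdc; exact zero_ne_one hdc
    · rw [← hq.eq_of_vadd e, hc] at hdc; exact zero_ne_one hdc
    · rw [hd', H.add_left, H.smul_left, ha, hza, mul_zero, add_zero]
    · rw [H.add_left, hd', H.add_left, H.smul_left, p.prod, hzb, mul_one, add_zero, ← hα]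
      exact hq.add_self _
    · rw [← tv_third hq hdd hc hcd]
      simp only [← mul_assoc, tv_sq hq hdd, one_mul]
      rw [mul_assoc, tv_sq hq hdd, mul_one]

end Cfsg.Lib.TTUnitary
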