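import Mathlib.GroupTheory.Transfer
import Mathlib.GroupTheory.NoncommCoprod
import Mathlib.GroupTheory.PGroup

/-!
# A transfer argument for groups generated by involutions

If a subgroup avoiding a central 2-subgroup covers an odd index subgroup and contains every generating
involution lying in that subgroup, then the central 2-subgroup is trivial.
-/

set_option autoImplicit false

namespace Cfsg.Lib.TTUnitary

open MulAction Subgroup MonoidHom

open scoped IsMulCommutative in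
theorem central_eq_bot_of_transfer {G : Type*} [Group G] [Finite G] {Z M : Subgroup G}
    (hZ : Z ≤ center G) (hZ2 : IsPGroup 2 Z) (hMZ : M ⊓ Z = ⊥) {E : Set G}
    (hsq : ∀ e ∈ E, e * e = 1) (hconj : ∀ e ∈ E, ∀ g : G, g * e * g⁻¹ ∈ E) (hgen : closure E = ⊤)
    (hodd : Odd (M ⊔ Z).index) (hE : ∀ e ∈ E, e ∈ M ⊔ Z → e ∈ M) : Z = ⊥ := by
  classical
  haveI : IsMulCommutative Z :=
    ⟨⟨fun a b => Subtype.ext (mem_center_iff.mp (hZ b.2) a.1)⟩⟩
  have hc : ∀ (m : M) (z : Z), Commute (m : G) (z : G) := fun m z => mem_center_iff.mp (hZ z.2) m.1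
  let f : M × Z →* G := M.subtype.noncommCoprod Z.subtype hc
  have hfi : Function.Injective f := by
    refine (noncommCoprod_injective _ _ hc).mpr ?_
    exact ⟨M.subtype_injective, Z.subtype_injective, by
      rw [range_subtype, range_subtype, disjoint_iff]; exact hMZ⟩
  have hfr : f.range = M ⊔ Z :=
    (noncommCoprod_range _ _ hc).trans (by rw [range_subtype, range_subtype])
  let e : M × Z ≃* ↥(M ⊔ Z) := (MonoidHom.ofInjective hfi).trans (MulEquiv.subgroupCongr hfr)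
  let ϕ : ↥(M ⊔ Z) →* Z := (MonoidHom.snd M Z).comp e.symm.toMonoidHom
  have hϕ : ∀ (m : M) (z : Z) (h : (m : G) * z ∈ M ⊔ Z), ϕ ⟨(m : G) * z, h⟩ = z := by
    intro m z h
    show (e.symm ⟨(m : G) * z, h⟩).2 = z
    rw [show (⟨(m : G) * z, h⟩ : ↥(M ⊔ Z)) = e (m, z) from Subtype.ext rfl, e.symm_apply_apply]
  have hϕM : ∀ (g : ↥(M ⊔ Z)), (g : G) ∈ M → ϕ g = 1 := by
    intro g hg
    have := hϕ ⟨g, hg⟩ 1 (by simp [g.2])
    simpa using this
  have hϕZ : ∀ (g : ↥(M ⊔ Z)) (hg : (g : G) ∈ Z), ϕ g = ⟨g, hg⟩ := by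
    intro g hg
    have := hϕ 1 ⟨g, hg⟩ (by simp [g.2])
    simpa using this
  haveI : (M ⊔ Z).FiniteIndex := inferInstance
  have hgens : ∀ x ∈ E, transfer ϕ x = 1 := by
    intro x hx
    have : Fintype (Quotient (orbitRel (zpowers x) (G ⧸ (M ⊔ Z)))) := Fintype.ofFinite _
    rw [transfer_eq_prod_quotient_orbitRel_zpowers_quot]
    refine Finset.prod_eq_one fun q _ => hϕM _ ?_
    show q.out.out⁻¹ * x ^ Function.minimalPeriod (x • ·) q.out * q.out.out ∈ M
    have hmem := QuotientGroup.out_conj_pow_minimalPeriod_mem (M ⊔ Z) x q.out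
    set k := Function.minimalPeriod (x • ·) q.out
    have hx2 : x ^ 2 = 1 := by rw [pow_two]; exact hsq x hx
    rcases Nat.even_or_odd k with ⟨j, hj⟩ | ⟨j, hj⟩
    · rw [hj, ← two_mul, pow_mul, hx2, one_pow, mul_one, inv_mul_cancel]
      exact one_mem M
    · rw [hj, pow_succ, pow_mul, hx2, one_pow, one_mul] at hmem ⊢
      refine hE _ ?_ hmem
      simpa using hconj x hx q.out.out⁻¹
  have htriv : ∀ g : G, transfer ϕ g = 1 := by
    intro g
    have hg : g ∈ closure E := hgen ▸ mem_top g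
    have : closure E ≤ (transfer ϕ).ker := (closure_le _).mpr fun x hx => mem_ker.mpr (hgens x hx)
    exact mem_ker.mp (this hg)
  rw [eq_bot_iff]
  intro z hz
  have key : ∀ (k : ℕ) (g₀ : G), g₀⁻¹ * z ^ k * g₀ ∈ M ⊔ Z → g₀⁻¹ * z ^ k * g₀ = z ^ k := by
    intro k g₀ _
    rw [mul_assoc, ← mem_center_iff.mp (Subgroup.pow_mem _ (hZ hz) k) g₀, inv_mul_cancel_left]
  have h := htriv z
  rw [transfer_eq_pow ϕ z key, hϕZ _ (Z.pow_mem hz _)] at h
  have h1 : z ^ (M ⊔ Z).index = 1 := congrArg Subtype.val h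
  obtain ⟨n, hn⟩ := hZ2 ⟨z, hz⟩
  have h2 : z ^ 2 ^ n = 1 := congrArg Subtype.val hn
  have hco : Nat.Coprime (M ⊔ Z).index (2 ^ n) := (Nat.Coprime.pow_right n (Nat.coprime_two_right.mpr hodd))
  rw [mem_bot, ← orderOf_eq_one_iff]
  exact Nat.eq_one_of_dvd_coprimes hco (orderOf_dvd_of_pow_eq_one h1) (orderOf_dvd_of_pow_eq_one h2)

end Cfsg.Lib.TTUnitary
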