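import Cfsg.Agent.ThreeTransposition.UnitaryRadical.Generation
import Cfsg.Agent.ThreeTransposition.UnitaryRadical.Transfer

/-!
# Central 2-covers by lifted transvection classes

A central 2-extension of the special unitary group of dimension five or seven over the field with four
elements, generated by a lifted class of transvections whose stabiliser parts avoid the kernel, is trivial.
-/

set_option autoImplicit false
set_option linter.unusedSectionVars false

namespace Cfsg.Lib.TTUnitary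

open Cfsg.Lib.Classical

universe u v w

variable {F : Type u} [Field F] {V : Type v} [AddCommGroup V] [Module F V] {H : HermSpace F V}
variable [Finite F] [FiniteDimensional F V] {G : Type w} [Group G] [Finite G]

/-- A central 2-extension with lifted transvections. -/
structure Cover (hq : Four H) (φ : G →* H.SIsom) (E : Set G) : Prop where
  surj : Function.Surjective φ
  central : φ.ker ≤ Subgroup.center G
  two : IsPGroup 2 φ.ker
  sq : ∀ e ∈ E, e * e = 1
  conj : ∀ e ∈ E, ∀ g : G, g * e * g⁻¹ ∈ E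
  gen : Subgroup.closure E = ⊤
  image : ∀ e ∈ E, ∃ v, v ≠ 0 ∧ H.h v v = 0 ∧ φ e = tv hq v
  lift : ∀ v, v ≠ 0 → H.h v v = 0 → ∃ e ∈ E, φ e = tv hq v
  avoid : ∀ a, a ≠ 0 → H.h a a = 0 → Subgroup.closure {e ∈ E | (φ e).1.1 a = a} ⊓ φ.ker = ⊥

variable {hq : Four H} {φ : G →* H.SIsom} {E : Set G}

omit [Finite G] in
theorem fix_of_mem_closure {S : Set G} {x : V} (hS : ∀ e ∈ S, (φ e).1.1 x = x) {g : G}
    (hg : g ∈ Subgroup.closure S) : (φ g).1.1 x = x := by
  induction hg using Subgroup.closure_induction with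
  | mem t ht => exact hS t ht
  | one => rw [map_one]; rfl
  | mul a b _ _ ha hb => rw [map_mul, H.smul_mul_apply, hb, ha]
  | inv a _ ha =>
    rw [map_inv]
    conv_lhs => rw [← ha]
    exact H.inv_apply_self (φ a).1 x

namespace Cover

variable (C : Cover hq φ E)
include C

omit [Finite G] in
theorem lg_le_map {U : Submodule F V} {S : Set V} (hS : ∀ x ∈ S, x ∈ H.orth U) :
    lg hq U ≤ (Subgroup.closure {e ∈ E | ∀ x ∈ S, (φ e).1.1 x = x}).map φ := by
  rw [lg, Subgroup.closure_le]
  rintro _ ⟨v, hvU, hv0, hv, rfl⟩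
  obtain ⟨e, he, eq⟩ := C.lift v hv0 hv
  exact ⟨e, Subgroup.subset_closure ⟨he, fun x hx => by rw [eq, tv_fix hq hv (hS x hx v hvU)]⟩, eq⟩

omit [Finite G] in
theorem lp_le_map {U : Submodule F V} {a : V} {S : Set V} (hS : ∀ x ∈ S, x = a ∨ x ∈ H.orth U) :
    lp hq U a ≤ (Subgroup.closure {e ∈ E | ∀ x ∈ S, (φ e).1.1 x = x}).map φ := by
  rw [lp, Subgroup.closure_le]
  rintro _ ⟨v, hvU, hv0, hv, hva, rfl⟩
  obtain ⟨e, he, eq⟩ := C.lift v hv0 hv
  refine ⟨e, Subgroup.subset_closure ⟨he, fun x hx => ?_⟩, eq⟩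
  rw [eq, tv_fix hq hv]
  rcases hS x hx with rfl | h
  · exact H.eq_zero_symm hva
  · exact h v hvU

omit [Finite G] in
theorem map_le_lp {a : V} :
    (Subgroup.closure {e ∈ E | (φ e).1.1 a = a}).map φ ≤ lp hq ⊤ a := by
  rw [MonoidHom.map_closure, Subgroup.closure_le]
  rintro _ ⟨e, ⟨he, hfix⟩, rfl⟩
  obtain ⟨v, hv0, hv, eq⟩ := C.image e he
  rw [eq] at hfix ⊢
  rw [tv_apply hq hv, add_eq_left, smul_eq_zero] at hfix
  exact tv_mem_lp hq trivial hv0 hv (H.eq_zero_symm (hfix.resolve_right hv0))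

theorem top_nondeg : H.NondegOn (⊤ : Submodule F V) := fun v _ h => H.nondeg v fun x => h x trivial

theorem supp_top (g : H.SIsom) : Supp H ⊤ g := fun x hx => by
  rw [H.nondeg x fun y => H.eq_zero_symm (hx y trivial), map_zero]

open MulAction in
/-- The index of the stabiliser of an isotropic vector is odd. -/
theorem odd_index_stabilizer {U : Submodule F V} (hU : H.NondegOn U) (hd : 3 ≤ Module.finrank F U) {a : V}
    (haU : a ∈ U) (ha0 : a ≠ 0) (ha : H.h a a = 0) (K : Subgroup G) (hKU : ∀ k ∈ K, Supp H U (φ k))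
    (hUK : lg hq U ≤ K.map φ) (T : Subgroup K) (hT : ∀ k : K, k ∈ T ↔ (φ k).1.1 a = a) :
    Odd T.index := by
  letI : MulAction K V :=
    MulAction.compHom V (H.Isom.subtype.comp (H.SIsom.subtype.comp (φ.comp K.subtype)))
  have hst : T = stabilizer K a := Subgroup.ext fun k => hT k
  have horb : orbit K a = {x : V | x ∈ U ∧ x ≠ 0 ∧ H.h x x = 0} := by
    ext x
    refine ⟨?_, fun ⟨hxU, hx0, hx⟩ => ?_⟩
    · rintro ⟨k, rfl⟩
      show (φ k).1.1 a ∈ _
      exact ⟨(hKU k k.2).apply_mem haU, H.isom_ne_zero _ ha0, by rw [H.map_form, ha]⟩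
    · obtain ⟨l, hl, el⟩ := trans_iso hq hU hd haU hxU ha0 hx0 ha hx
      obtain ⟨k, hk, ek⟩ := hUK hl
      exact ⟨⟨k, hk⟩, show (φ k).1.1 a = x by rw [ek, el]⟩
  rw [hst, index_stabilizer, horb]
  exact odd_ncard_iso hq haU ha0 ha

/-- The lifts of the transvections at vectors orthogonal to a norm one vector avoid the kernel. -/
theorem avoid_unit (hd : Module.finrank F V = 5) {v : V} (hv : H.h v v = 1) :
    Subgroup.closure {e ∈ E | (φ e).1.1 v = v} ⊓ φ.ker = ⊥ := by
  classical
  set S : Set G := {e ∈ E | (φ e).1.1 v = v} with hS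
  set K := Subgroup.closure S with hK
  set U := perp1 H ⊤ v with hUdef
  have hU : H.NondegOn U := perp1_nondeg hq C.top_nondeg trivial hv
  have hUd : Module.finrank F U = 4 := by
    have := perp1_finrank hq (U := (⊤ : Submodule F V)) (w := v) trivial hv
    rw [finrank_top, hd] at this
    show Module.finrank F (perp1 H ⊤ v) = 4
    omega
  have hvU : v ∈ H.orth U := fun w hw => H.eq_zero_symm (mem_perp1.mp hw).2
  have hsupp : ∀ g : H.SIsom, g.1.1 v = v → Supp H U g := fun g hg =>
    supp_perp1 hq (U := ⊤) Submodule.mem_top hv (C.supp_top g) hg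
  have hKfix : ∀ k ∈ K, (φ k).1.1 v = v := fun k hk => fix_of_mem_closure (fun e he => he.2) hk
  obtain ⟨c, hcU, hc0, hc⟩ := exists_iso hU (by omega)
  obtain ⟨b, p⟩ := exists_pair hU hcU hc0 hc
  set S' : Set G := {e ∈ E | ∀ x ∈ ({v, c} : Set V), (φ e).1.1 x = x} with hS'
  have hS'K : Subgroup.closure S' ≤ K := Subgroup.closure_mono fun e he => ⟨he.1, he.2 v (by simp)⟩
  set Z : Subgroup K := φ.ker.subgroupOf K with hZ
  set M : Subgroup K := (Subgroup.closure S').subgroupOf K with hM
  have hav := C.avoid c hc0 hc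
  have hS'c : Subgroup.closure S' ≤ Subgroup.closure {e ∈ E | (φ e).1.1 c = c} :=
    Subgroup.closure_mono fun e he => ⟨he.1, he.2 c (by simp)⟩
  have hMZ : M ⊔ Z = (show Subgroup K from
      { carrier := {k | (φ k).1.1 c = c}
        one_mem' := by show (φ (1 : G)).1.1 c = c; rw [map_one]; rfl
        mul_mem' := fun {x y} hx hy => by
          show (φ ((x : G) * y)).1.1 c = c
          rw [map_mul, H.smul_mul_apply, show (φ y).1.1 c = c from hy, show (φ x).1.1 c = c from hx]
        inv_mem' := fun {x} hx => by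
          show (φ (x : G)⁻¹).1.1 c = c
          rw [map_inv]
          conv_lhs => rw [← (show (φ x).1.1 c = c from hx)]
          exact H.inv_apply_self (φ x).1 c }) := by
    refine le_antisymm (sup_le (fun k hk => fix_of_mem_closure (fun e he => he.2 c (by simp)) hk)
      fun k hk => ?_) fun k hk => ?_
    · show (φ (k : G)).1.1 c = c
      rw [show φ (k : G) = 1 from hk]; rfl
    · have h1 : φ k ∈ lp hq U c := stab_step hq hU (by omega) p _ le_rfl
        (fun g hg hgc hgb => lg_perp2_le_lp hq U c b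
          (gen_two hq (p.nondeg hq hU) (by have := p.finrank hq; omega) (supp_perp2 hq p hg hgc hgb)))
        (hsupp _ (hKfix k k.2)) hk
      obtain ⟨m, hm, em⟩ := C.lp_le_map (S := {v, c}) (by
        rintro x (rfl | rfl)
        exacts [Or.inr hvU, Or.inl rfl]) h1
      have : k = ⟨m, hS'K hm⟩ * ((⟨m, hS'K hm⟩ : K)⁻¹ * k) := by group
      rw [this]
      refine Subgroup.mul_mem_sup hm ?_
      show φ (m⁻¹ * k) = 1
      rw [map_mul, map_inv, em, inv_mul_cancel]
  have hZbot : Z = ⊥ := by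
    refine central_eq_bot_of_transfer (M := M) (E := K.subtype ⁻¹' S) ?_ ?_ ?_ ?_ ?_ ?_ ?_ ?_
    · exact fun z hz => Subgroup.mem_center_iff.mpr fun g =>
        Subtype.ext (Subgroup.mem_center_iff.mp (C.central hz) g)
    · exact C.two.comap_of_injective K.subtype K.subtype_injective
    · rw [eq_bot_iff]
      rintro z ⟨h1, h2⟩
      have : (z : G) ∈ (⊥ : Subgroup G) := hav ▸ ⟨hS'c h1, h2⟩
      exact Subgroup.mem_bot.mpr (Subtype.ext (Subgroup.mem_bot.mp this))
    · exact fun e he => Subtype.ext (C.sq _ he.1)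
    · intro e he g
      refine ⟨C.conj _ he.1 g, ?_⟩
      show (φ ((g : G) * e * (g : G)⁻¹)).1.1 v = v
      have he2 : (φ (e : G)).1.1 v = v := he.2
      rw [map_mul, map_mul, H.smul_mul_apply, H.smul_mul_apply, hKfix _ (K.inv_mem g.2), he2, hKfix _ g.2]
    · exact Subgroup.closure_closure_coe_preimage
    · refine C.odd_index_stabilizer hU (by omega) hcU hc0 hc K (fun k hk => hsupp _ (hKfix k hk)) ?_ _
        (fun k => by rw [hMZ]; rfl)
      refine (C.lg_le_map (S := {v}) (by rintro x rfl; exact hvU)).trans (Subgroup.map_mono ?_)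
      exact Subgroup.closure_mono fun e he => ⟨he.1, he.2 v rfl⟩
    · intro e he hmem
      rw [hMZ] at hmem
      refine Subgroup.subset_closure ⟨he.1, ?_⟩
      rintro x (rfl | rfl)
      exacts [he.2, hmem]
  rw [eq_bot_iff]
  rintro z ⟨h1, h2⟩
  have : (⟨z, h1⟩ : K) ∈ Z := h2
  rw [hZbot, Subgroup.mem_bot] at this
  exact Subgroup.mem_bot.mpr (congrArg Subtype.val this)

/-- The cover is trivial. -/
theorem ker_eq_bot (hd : Module.finrank F V = 5 ∨ Module.finrank F V = 7) : φ.ker = ⊥ := by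
  classical
  set U : Submodule F V := ⊤
  have hU : H.NondegOn U := C.top_nondeg
  have hUd : Module.finrank F U = Module.finrank F V := finrank_top F V
  obtain ⟨a, haU, ha0, ha⟩ := exists_iso hU (by omega)
  obtain ⟨b, p⟩ := exists_pair hU haU ha0 ha
  set S : Set G := {e ∈ E | (φ e).1.1 a = a}
  set Ma := Subgroup.closure S
  have hav := C.avoid a ha0 ha
  have hMafix : ∀ g ∈ Ma, (φ g).1.1 a = a := fun g hg => fix_of_mem_closure (fun e he => he.2) hg
  have hlp : lp hq U a ≤ Ma.map φ := (C.lp_le_map (S := {a}) (by rintro x rfl; exact Or.inl rfl)).trans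
    (Subgroup.map_mono (Subgroup.closure_mono fun e he => ⟨he.1, he.2 a rfl⟩))
  obtain ⟨M, hMaM, hMfix, hMZ, hMst⟩ : ∃ M : Subgroup G, Ma ≤ M ∧ (∀ g ∈ M, (φ g).1.1 a = a) ∧
      M ⊓ φ.ker = ⊥ ∧ ∀ g : H.SIsom, g.1.1 a = a → g.1.1 b = b → g ∈ M.map φ := by
    rcases hd with hd | hd
    · obtain ⟨ω, hω0, hv⟩ := exists_unit_on_pair hq p
      set v := a + ω • b with hvdef
      set Sv : Set G := {e ∈ E | (φ e).1.1 v = v}
      set K := Subgroup.closure Sv
      have hKZ : K ⊓ φ.ker = ⊥ := C.avoid_unit hd hv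
      let N : Subgroup G :=
        { carrier := {k | k ∈ K ∧ (φ k).1.1 a = a}
          one_mem' := ⟨K.one_mem, by rw [map_one]; rfl⟩
          mul_mem' := fun {x y} hx hy =>
            ⟨K.mul_mem hx.1 hy.1, by rw [map_mul, H.smul_mul_apply, hy.2, hx.2]⟩
          inv_mem' := fun {x} hx => ⟨K.inv_mem hx.1, by
            rw [map_inv]
            conv_lhs => rw [← hx.2]
            exact H.inv_apply_self (φ x).1 a⟩ }
      have hconjS : ∀ k, (φ k).1.1 a = a → ∀ e ∈ S, k * e * k⁻¹ ∈ S := by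
        intro k hk e he
        refine ⟨C.conj e he.1 k, ?_⟩
        have hk' : (φ k)⁻¹.1.1 a = a := by conv_lhs => rw [← hk]; exact H.inv_apply_self (φ k).1 a
        rw [map_mul, map_mul, map_inv, H.smul_mul_apply, H.smul_mul_apply, hk', he.2, hk]
      have hnorm : N ≤ Subgroup.normalizer (Ma : Set G) := by
        intro k hk
        refine Subgroup.normalizer_le_normalizer_closure S (fun e => ⟨hconjS k hk.2 e, fun he => ?_⟩)
        have := hconjS k⁻¹ (N.inv_mem hk).2 _ he
        simpa [mul_assoc] using this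
      have hMa_le : ∀ g ∈ Ma ⊔ N, ∃ m ∈ Ma, ∃ k ∈ N, m * k = g := by
        intro g hg
        rw [← SetLike.mem_coe, Subgroup.coe_mul_of_right_le_normalizer_left Ma N hnorm] at hg
        exact Set.mem_mul.mp hg
      refine ⟨Ma ⊔ N, le_sup_left, fun g hg => ?_, ?_, fun g hga hgb => ?_⟩
      · obtain ⟨m, hm, k, hk, rfl⟩ := hMa_le g hg
        rw [map_mul, H.smul_mul_apply, hk.2, hMafix m hm]
      · rw [eq_bot_iff]
        rintro g ⟨hg, hgker⟩
        obtain ⟨m, hm, k, hk, rfl⟩ := hMa_le g hg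
        have hmk : φ m * φ k = 1 := by rw [← map_mul]; exact hgker
        have hkm : φ k = φ m⁻¹ := by rw [map_inv]; exact eq_inv_of_mul_eq_one_right hmk
        have hka : φ k ∈ lp hq U a := C.map_le_lp ⟨m⁻¹, Ma.inv_mem hm, hkm.symm⟩
        have hkv : (φ k).1.1 v = v := fix_of_mem_closure (fun e he => he.2) hk.1
        have hkb : (φ k).1.1 b = b := by
          rw [hvdef, map_add, map_smul, hk.2] at hkv
          exact smul_right_injective V hω0 (add_left_cancel hkv)
        obtain ⟨l, hl, el⟩ := C.lg_le_map (S := {a, v}) (by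
          rintro x (rfl | rfl) <;> intro w hw <;> obtain ⟨-, hwa, hwb⟩ := mem_perp2.mp hw
          · exact H.eq_zero_symm hwa
          · rw [hvdef, H.add_left, H.smul_left, H.eq_zero_symm hwa, H.eq_zero_symm hwb, mul_zero, add_zero])
          (mem_lg_perp2_of_mem_lp hq hU p hka hkb)
        have hlM : l ∈ Ma := Subgroup.closure_mono
          (show _ ⊆ S from fun e he => ⟨he.1, he.2 a (by simp)⟩) hl
        have hlK : l ∈ K := Subgroup.closure_mono
          (show _ ⊆ Sv from fun e he => ⟨he.1, he.2 v (by simp)⟩) hl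
        have h1 : l⁻¹ * k ∈ (⊥ : Subgroup G) := hKZ ▸ ⟨K.mul_mem (K.inv_mem hlK) hk.1, by
          show φ (l⁻¹ * k) = 1
          rw [map_mul, map_inv, el, inv_mul_cancel]⟩
        have hkl : k = l := (inv_mul_eq_one.mp (Subgroup.mem_bot.mp h1)).symm
        have h2 : m * k ∈ (⊥ : Subgroup G) := hav ▸ ⟨Ma.mul_mem hm (hkl ▸ hlM), hgker⟩
        exact h2
      · have hgv : g.1.1 v = v := by rw [hvdef, map_add, map_smul, hga, hgb]
        have hsupp : Supp H (perp1 H U v) g := supp_perp1 hq (U := ⊤) Submodule.mem_top hv (C.supp_top g) hgv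
        obtain ⟨k, hk, ek⟩ := C.lg_le_map (S := {v}) (by
          rintro x rfl w hw; exact H.eq_zero_symm (mem_perp1.mp hw).2)
          (gen_four hq (perp1_nondeg hq hU Submodule.mem_top hv)
            (by have := perp1_finrank hq (U := U) (w := v) Submodule.mem_top hv; omega) hsupp)
        have hkK : k ∈ K := Subgroup.closure_mono
          (show _ ⊆ Sv from fun e he => ⟨he.1, he.2 v rfl⟩) hk
        exact ⟨k, Subgroup.mem_sup_right ⟨hkK, by rw [ek]; exact hga⟩, ek⟩
    · refine ⟨Ma, le_rfl, hMafix, hav, fun g hga hgb => hlp (lg_perp2_le_lp hq U a b ?_)⟩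
      exact gen_five hq (p.nondeg hq hU) (by have := p.finrank hq; omega)
        (supp_perp2 hq p (C.supp_top g) hga hgb)
  have hmem : ∀ g : G, g ∈ M ⊔ φ.ker ↔ (φ g).1.1 a = a := by
    intro g
    constructor
    · intro hg
      haveI : φ.ker.Normal := φ.normal_ker
      obtain ⟨m, hm, z, hz, rfl⟩ := Subgroup.mem_sup_of_normal_right.mp hg
      rw [map_mul, MonoidHom.mem_ker.mp hz, mul_one, hMfix m hm]
    · intro hg
      obtain ⟨m, hm, em⟩ := stab_step hq hU (by omega) p (M.map φ) (hlp.trans (Subgroup.map_mono hMaM))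
        (fun k _ hka hkb => hMst k hka hkb) (C.supp_top (φ g)) hg
      have : g = m * (m⁻¹ * g) := by group
      rw [this]
      exact Subgroup.mul_mem_sup hm (by rw [MonoidHom.mem_ker, map_mul, map_inv, em, inv_mul_cancel])
  refine central_eq_bot_of_transfer C.central C.two hMZ C.sq C.conj C.gen ?_ fun e he hm => ?_
  · have h := C.odd_index_stabilizer hU (by omega) haU ha0 ha ⊤ (fun k _ => C.supp_top (φ k))
      (fun g _ => let ⟨k, hk⟩ := C.surj g; ⟨k, trivial, hk⟩) ((M ⊔ φ.ker).subgroupOf ⊤)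
      (fun k => hmem k)
    change Odd ((M ⊔ φ.ker).relIndex ⊤) at h
    rwa [Subgroup.relIndex_top_right] at h
  · exact hMaM (Subgroup.subset_closure ⟨he, (hmem e).mp hm⟩)

end Cover

end Cfsg.Lib.TTUnitary
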