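import Cfsg.Agent.ThreeTransposition.UnitaryRadical.Involution
import Cfsg.Agent.ThreeTransposition.UnitaryRadical.Cover
import Cfsg.Agent.Components.Cores
import Cfsg.Prelude.Def_Transfer
import Cfsg.Prelude.Def_SporadicB

/-!
# The two-radical over `SU₅(2)` and `SU₇(2)`

A group generated by a class of 3-transpositions, with trivial centre, whose quotient by a normal 2-subgroup
is the special unitary group of dimension five or seven over the field with four elements: the normal
2-subgroup is elementary abelian.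
-/

set_option autoImplicit false
set_option linter.unusedSectionVars false

namespace Cfsg.Lib.TTUnitary

open Cfsg.Lib.Classical Subgroup
open scoped commutatorElement

universe u v w

variable {F : Type u} [Field F] {V : Type v} [AddCommGroup V] [Module F V] {H : HermSpace F V}
variable [Finite F] [FiniteDimensional F V] {G : Type w} [Group G] [Finite G]

/-- The data of the quotient map. -/
structure Quot (hq : Four H) (ψ : G →* H.SIsom) (D : Set G) : Prop where
  cls : Cfsg.IsThreeTranspositionClass D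
  surj : Function.Surjective ψ
  two : IsPGroup 2 ψ.ker
  trivialCenter : center G = ⊥
  dim : Module.finrank F V = 5 ∨ Module.finrank F V = 7

variable {hq : Four H} {ψ : G →* H.SIsom} {D : Set G}

/-- The products `x x'` of `x` with the members of the class in its coset. -/
def block (ψ : G →* H.SIsom) (D : Set G) (x : G) : Subgroup G :=
  closure {c | ∃ x' ∈ D, ψ x' = ψ x ∧ x * x' = c}

/-- The subgroup generated by all the blocks. -/
def blocks (ψ : G →* H.SIsom) (D : Set G) : Subgroup G :=
  closure {c | ∃ x ∈ D, ∃ x' ∈ D, ψ x' = ψ x ∧ x * x' = c}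

namespace Quot

variable (P : Quot hq ψ D)
include P

omit [Finite G] in
theorem sq_one {d : G} (hd : d ∈ D) : d * d = 1 := by
  have := pow_orderOf_eq_one d
  rwa [P.cls.1.1 d hd, pow_two] at this

omit [Finite G] in
theorem inv_self {d : G} (hd : d ∈ D) : d⁻¹ = d := inv_eq_of_mul_eq_one_left (P.sq_one hd)

omit [Finite G] in
theorem conj_mem {d : G} (hd : d ∈ D) (g : G) : g * d * g⁻¹ ∈ D := by
  obtain ⟨a, ha, hDa⟩ := P.cls.2.1
  rw [hDa] at hd ⊢
  exact IsConj.trans hd (isConj_iff.mpr ⟨g, rfl⟩)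

omit [Finite G] in
theorem conj_surj {d e : G} (hd : d ∈ D) (he : e ∈ D) : ∃ g, g * d * g⁻¹ = e := by
  obtain ⟨a, ha, hDa⟩ := P.cls.2.1
  rw [hDa] at hd he
  exact isConj_iff.mp (hd.symm.trans he)

theorem not_ker {d : G} (hd : d ∈ D) : ψ d ≠ 1 := by
  intro h
  have htop : closure D ≤ ψ.ker := (closure_le _).mpr fun e he => by
    obtain ⟨g, rfl⟩ := P.conj_surj hd he
    show ψ _ = 1
    rw [map_mul, map_mul, h, mul_one, map_inv, mul_inv_cancel]
  rw [P.cls.2.2] at htop
  obtain ⟨a, -, ha0, ha⟩ := exists_iso (H := H) (U := (⊤ : Submodule F V))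
    (fun v _ h => H.nondeg v fun x => h x trivial) (by rw [finrank_top]; rcases P.dim with h | h <;> omega)
  obtain ⟨g, hg⟩ := P.surj (tv hq a)
  exact tv_ne_one hq ha0 ha (hg ▸ htop (mem_top g))

theorem image {d : G} (hd : d ∈ D) : ∃ v, v ≠ 0 ∧ H.h v v = 0 ∧ ψ d = tv hq v := by
  refine exists_eq_tv hq (by rw [← map_mul, P.sq_one hd, map_one]) (P.not_ker hd) fun x => ?_
  obtain ⟨g, rfl⟩ := P.surj x
  rcases P.cls.1.2 d hd _ (P.conj_mem hd g) with h | h
  · left; rw [← map_inv, ← map_mul, ← map_mul, ← map_mul, ← map_pow, h, map_one]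
  · right; rw [← map_inv, ← map_mul, ← map_mul, ← map_mul, ← map_pow, h, map_one]

theorem lift {v : V} (hv0 : v ≠ 0) (hv : H.h v v = 0) : ∃ d ∈ D, ψ d = tv hq v := by
  obtain ⟨d, hd, -⟩ := P.cls.2.1
  obtain ⟨w, hw0, hw, ew⟩ := P.image hd
  obtain ⟨l, -, el⟩ := trans_iso hq (U := (⊤ : Submodule F V)) (fun v _ h => H.nondeg v fun x => h x trivial)
    (by rw [finrank_top]; rcases P.dim with h | h <;> omega) Submodule.mem_top Submodule.mem_top hw0 hv0 hw hv
  obtain ⟨g, rfl⟩ := P.surj l
  exact ⟨g * d * g⁻¹, P.conj_mem hd g, by rw [map_mul, map_mul, map_inv, ew, tv_conj hq _ hw, el]⟩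

theorem commute_lift {x y : G} (hx : x ∈ D) (hy : y ∈ D) (h : Commute (ψ x) (ψ y)) : Commute x y := by
  rcases P.cls.1.2 x hx y hy with h2 | h3
  · have e : x * y = (x * y)⁻¹ := by rw [eq_inv_iff_mul_eq_one, ← pow_two]; exact h2
    rwa [mul_inv_rev, P.inv_self hx, P.inv_self hy] at e
  · have hker : x * y ∈ ψ.ker := by
      have e2 : (ψ (x * y)) ^ 2 = 1 := by
        rw [map_mul, h.mul_pow, pow_two, pow_two, ← map_mul, ← map_mul, P.sq_one hx, P.sq_one hy, map_one,
          one_mul]
      have e3 : (ψ (x * y)) ^ 3 = 1 := by rw [← map_pow, h3, map_one]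
      rw [pow_succ, e2, one_mul] at e3
      exact e3
    obtain ⟨n, hn⟩ := P.two ⟨x * y, hker⟩
    have hn' : (x * y) ^ 2 ^ n = 1 := congrArg Subtype.val hn
    have h1 : orderOf (x * y) = 1 := Nat.eq_one_of_dvd_coprimes
      (Nat.Coprime.pow_right n (by norm_num : Nat.Coprime 3 2)) (orderOf_dvd_of_pow_eq_one h3)
      (orderOf_dvd_of_pow_eq_one hn')
    have : x = y := by
      rw [← P.inv_self hy]; exact eq_inv_of_mul_eq_one_left (orderOf_eq_one_iff.mp h1)
    exact this ▸ Commute.refl x

omit [Finite G] in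
theorem block_le_ker {x : G} (hx : x ∈ D) : block ψ D x ≤ ψ.ker := (closure_le _).mpr fun c hc => by
  obtain ⟨x', -, e, rfl⟩ := hc
  show ψ _ = 1
  rw [map_mul, e, ← map_mul, P.sq_one hx, map_one]

theorem commute_block {x d c : G} (hx : x ∈ D) (hd : d ∈ D) (h : Commute (ψ d) (ψ x))
    (hc : c ∈ block ψ D x) : Commute d c := by
  induction hc using closure_induction with
  | mem c hc =>
    obtain ⟨x', hx', e, rfl⟩ := hc
    exact (P.commute_lift hd hx h).mul_right (P.commute_lift hd hx' (e ▸ h))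
  | one => exact Commute.one_right d
  | mul _ _ _ _ a b => exact a.mul_right b
  | inv _ _ a => exact a.inv_right

/-- The key step: a commutator with a member of a block is centralised by the members commuting with it. -/
theorem commute_commutator {x d a b : G} (hx : x ∈ D) (hd : d ∈ D) (h : Commute (ψ d) (ψ x))
    (ha : a ∈ block ψ D x) (hb : b ∈ ψ.ker) : Commute d ⁅a, b⁆ := by
  have hd' : b⁻¹ * d * b ∈ D := by simpa using P.conj_mem hd b⁻¹
  have hψ : ψ (b⁻¹ * d * b) = ψ d := by
    rw [map_mul, map_mul, map_inv, MonoidHom.mem_ker.mp hb, inv_one, one_mul, mul_one]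
  have c1 : Commute d a := P.commute_block hx hd h ha
  have c2 : Commute (b⁻¹ * d * b) a := P.commute_block hx hd' (hψ.symm ▸ h) ha
  have ce : Commute (b⁻¹ * d * b * d) a := c2.mul_left c1
  have e : d * b * d⁻¹ = b * (b⁻¹ * d * b * d) := by rw [P.inv_self hd]; group
  refine mul_inv_eq_iff_eq_mul.mp ?_
  calc d * ⁅a, b⁆ * d⁻¹ = ⁅d * a * d⁻¹, d * b * d⁻¹⁆ := conjugate_commutatorElement _ _ _
    _ = ⁅a, b * (b⁻¹ * d * b * d)⁆ := by rw [c1.eq, mul_inv_cancel_right, e]
    _ = ⁅a, b⁆ := by
      generalize b⁻¹ * d * b * d = u at ce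
      rw [commutatorElement_def, commutatorElement_def]
      calc a * (b * u) * a⁻¹ * (b * u)⁻¹ = a * b * (u * a⁻¹) * u⁻¹ * b⁻¹ := by group
        _ = a * b * a⁻¹ * b⁻¹ := by rw [ce.inv_right.eq]; group

theorem block_commute {x y a b : G} (hx : x ∈ D) (hy : y ∈ D) (ha : a ∈ block ψ D x) (hb : b ∈ block ψ D y) :
    Commute a b := by
  by_cases h : Commute (ψ x) (ψ y)
  · induction hb using closure_induction with
    | mem c hc =>
      obtain ⟨y', hy', e, rfl⟩ := hc
      exact ((P.commute_block hx hy h.symm ha).mul_left (P.commute_block hx hy' (e ▸ h.symm) ha)).symm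
    | one => exact Commute.one_right a
    | mul _ _ _ _ u v => exact u.mul_right v
    | inv _ _ u => exact u.inv_right
  · refine commutatorElement_eq_one_iff_commute.mp ?_
    set S : Set G := {d ∈ D | Commute (ψ d) (ψ x) ∨ Commute (ψ d) (ψ y)}
    have hS : ∀ d ∈ closure S, Commute d ⁅a, b⁆ := by
      intro d hd
      induction hd using closure_induction with
      | mem d hd =>
        rcases hd.2 with h1 | h1
        · exact P.commute_commutator hx hd.1 h1 ha (P.block_le_ker hy hb)
        · rw [← commutatorElement_inv]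
          exact (P.commute_commutator hy hd.1 h1 hb (P.block_le_ker hx ha)).inv_right
      | one => exact Commute.one_left _
      | mul _ _ _ _ u v => exact u.mul_left v
      | inv _ _ u => exact u.inv_left
    obtain ⟨va, -, hva, ea⟩ := P.image hx
    obtain ⟨vb, -, hvb, eb⟩ := P.image hy
    have hab : H.h va vb ≠ 0 := fun e => h (by rw [ea, eb]; exact tv_commute hq hva hvb (H.eq_zero_symm e))
    have hperp : ∀ v, H.h v v = 0 → H.h v va = 0 ∨ H.h v vb = 0 → ∀ d ∈ D, ψ d = tv hq v → d ∈ S := by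
      intro v hv hor d hd e
      refine ⟨hd, ?_⟩
      rw [e, ea, eb]
      exact hor.imp (fun h => (tv_commute hq hva hv h).symm) fun h => (tv_commute hq hvb hv h).symm
    have htop : closure D ≤ closure S := by
      rw [closure_le]
      intro d hd
      obtain ⟨c, hc0, hc, ec⟩ := P.image hd
      rcases connect hq (U := (⊤ : Submodule F V)) (fun v _ h => H.nondeg v fun x => h x trivial)
        (by rw [finrank_top]; rcases P.dim with h | h <;> omega)
        (a := va) (b := vb) (c := c) Submodule.mem_top Submodule.mem_top Submodule.mem_top hva hvb hc hab hc0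
        with h1 | ⟨u, e, hu, he, hu0, he0, hu', he', eq⟩
      · exact subset_closure (hperp c hc h1 d hd ec)
      · obtain ⟨d1, hd1, e1⟩ := P.lift hu0 hu
        have h2 : d1 * d * d1⁻¹ ∈ S := hperp e he he' _ (P.conj_mem hd d1) (by
          rw [map_mul, map_mul, map_inv, e1, ec, eq, tv_inv hq hu]
          simp only [← mul_assoc, tv_sq hq hu, one_mul]
          rw [mul_assoc, tv_sq hq hu, mul_one])
        have h3 : d1⁻¹ * (d1 * d * d1⁻¹) * d1 ∈ closure S :=
          mul_mem (mul_mem (inv_mem (subset_closure (hperp u hu hu' _ hd1 e1))) (subset_closure h2))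
            (subset_closure (hperp u hu hu' _ hd1 e1))
        simpa [mul_assoc] using h3
    rw [P.cls.2.2] at htop
    have hcen : ⁅a, b⁆ ∈ center G := mem_center_iff.mpr fun g => hS g (htop (mem_top g))
    rwa [P.trivialCenter, mem_bot] at hcen

omit [Finite G] in
theorem blocks_normal : (blocks ψ D).Normal := by
  refine ⟨fun n hn g => ?_⟩
  induction hn using closure_induction with
  | mem c hc =>
    obtain ⟨x, hx, x', hx', e, rfl⟩ := hc
    refine subset_closure ⟨g * x * g⁻¹, P.conj_mem hx g, g * x' * g⁻¹, P.conj_mem hx' g, ?_, by group⟩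
    simp only [map_mul, map_inv, e]
  | one => simp
  | mul u v _ _ hu hv =>
    rw [show g * (u * v) * g⁻¹ = g * u * g⁻¹ * (g * v * g⁻¹) by group]; exact mul_mem hu hv
  | inv u _ hu => rw [show g * u⁻¹ * g⁻¹ = (g * u * g⁻¹)⁻¹ by group]; exact inv_mem hu

theorem gen_commute {x x' y y' : G} (hx : x ∈ D) (hx' : x' ∈ D) (e : ψ x' = ψ x) (hy : y ∈ D)
    (hy' : y' ∈ D) (e' : ψ y' = ψ y) : Commute (x * x') (y * y') :=
  P.block_commute hx hy (subset_closure ⟨x', hx', e, rfl⟩) (subset_closure ⟨y', hy', e', rfl⟩)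

theorem blocks_commute {a b : G} (ha : a ∈ blocks ψ D) (hb : b ∈ blocks ψ D) : Commute a b := by
  induction ha using closure_induction with
  | mem c hc =>
    obtain ⟨x, hx, x', hx', e, rfl⟩ := hc
    induction hb using closure_induction with
    | mem c hc =>
      obtain ⟨y, hy, y', hy', e', rfl⟩ := hc
      exact P.gen_commute hx hx' e hy hy' e'
    | one => exact Commute.one_right _
    | mul _ _ _ _ u v => exact u.mul_right v
    | inv _ _ u => exact u.inv_right
  | one => exact Commute.one_left _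
  | mul _ _ _ _ u v => exact u.mul_left v
  | inv _ _ u => exact u.inv_left

theorem blocks_sq {a : G} (ha : a ∈ blocks ψ D) : a * a = 1 := by
  induction ha using closure_induction with
  | mem c hc =>
    obtain ⟨x, hx, x', hx', e, rfl⟩ := hc
    rw [(P.commute_lift hx hx' (e ▸ Commute.refl _)).symm.mul_mul_mul_comm, P.sq_one hx, P.sq_one hx', one_mul]
  | one => exact one_mul 1
  | mul u v hu hv hu2 hv2 => rw [(P.blocks_commute hv hu).mul_mul_mul_comm, hu2, hv2, one_mul]
  | inv u _ hu2 => rw [← mul_inv_rev, hu2, inv_one]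

omit [Finite G] in
theorem blocks_le_ker : blocks ψ D ≤ ψ.ker := (closure_le _).mpr fun c hc => by
  obtain ⟨x, hx, x', hx', e, rfl⟩ := hc
  exact P.block_le_ker hx (subset_closure ⟨x', hx', e, rfl⟩)

theorem commutator_mem_blocks {q : G} (hq' : q ∈ ψ.ker) (g : G) : q * g * q⁻¹ * g⁻¹ ∈ blocks ψ D := by
  haveI := P.blocks_normal
  have hg : g ∈ closure D := P.cls.2.2 ▸ mem_top g
  induction hg using closure_induction with
  | mem d hd =>
    have e : ψ (q * d * q⁻¹) = ψ d := by
      rw [map_mul, map_mul, map_inv, MonoidHom.mem_ker.mp hq', inv_one, one_mul, mul_one]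
    have h : d * (q * d * q⁻¹) ∈ blocks ψ D :=
      subset_closure ⟨d, hd, _, P.conj_mem hd q, e, rfl⟩
    rw [P.inv_self hd, ← (P.commute_lift hd (P.conj_mem hd q) (e ▸ Commute.refl _)).eq]
    exact h
  | one => simp
  | mul u v _ _ hu hv =>
    have := mul_mem hu (Normal.conj_mem ‹_› _ hv u)
    convert this using 1
    group
  | inv u _ hu =>
    have := Normal.conj_mem ‹_› _ (inv_mem hu) u⁻¹
    convert this using 1
    group

/-- Centralising one block of the class is centralising all. -/
theorem commute_blocks_of_block {x q : G} (hx : x ∈ D) (hq' : q ∈ ψ.ker)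
    (h : ∀ c ∈ block ψ D x, Commute q c) {a : G} (ha : a ∈ blocks ψ D) : Commute q a := by
  induction ha using closure_induction with
  | mem c hc =>
    obtain ⟨y, hy, y', hy', e, rfl⟩ := hc
    obtain ⟨g, hg⟩ := P.conj_surj hx hy
    have hm : x * (g⁻¹ * y' * g) ∈ block ψ D x := subset_closure ⟨g⁻¹ * y' * g,
      by simpa using P.conj_mem hy' g⁻¹, by rw [map_mul, map_mul, e, ← map_mul, ← map_mul, ← hg]; group, rfl⟩
    have hc1 := P.commutator_mem_blocks hq' g
    have hmA : x * (g⁻¹ * y' * g) ∈ blocks ψ D := subset_closure ⟨x, hx, g⁻¹ * y' * g,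
      by simpa using P.conj_mem hy' g⁻¹, by rw [map_mul, map_mul, e, ← map_mul, ← map_mul, ← hg]; group, rfl⟩
    have hyy : y * y' = g * (x * (g⁻¹ * y' * g)) * g⁻¹ := by rw [← hg]; group
    have hgA : g * (x * (g⁻¹ * y' * g)) * g⁻¹ ∈ blocks ψ D := P.blocks_normal.conj_mem _ hmA g
    rw [hyy]
    set m := x * (g⁻¹ * y' * g)
    refine mul_inv_eq_iff_eq_mul.mp ?_
    calc q * (g * m * g⁻¹) * q⁻¹
        = (q * g * q⁻¹ * g⁻¹) * (g * (q * m * q⁻¹) * g⁻¹) * (q * g * q⁻¹ * g⁻¹)⁻¹ := by group
      _ = (q * g * q⁻¹ * g⁻¹) * (g * m * g⁻¹) * (q * g * q⁻¹ * g⁻¹)⁻¹ := by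
          rw [(h _ hm).eq, mul_inv_cancel_right]
      _ = g * m * g⁻¹ := by rw [(P.blocks_commute hc1 hgA).eq, mul_inv_cancel_right]
  | one => exact Commute.one_right q
  | mul _ _ _ _ u v => exact u.mul_right v
  | inv _ _ u => exact u.inv_right

/-- The kernel centralises the blocks. -/
theorem ker_commute {q a : G} (hq' : q ∈ ψ.ker) (ha : a ∈ blocks ψ D) : Commute q a := by
  classical
  haveI := P.blocks_normal
  set C : Subgroup G := ψ.ker ⊓ centralizer (blocks ψ D : Set G) with hC
  haveI : C.Normal := inferInstance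
  have hAC : blocks ψ D ≤ C := fun u hu =>
    ⟨P.blocks_le_ker hu, mem_centralizer_iff.mpr fun c hc => (P.blocks_commute hc hu).eq⟩
  set π := QuotientGroup.mk' C with hπ
  let φ : (G ⧸ C) →* H.SIsom := QuotientGroup.lift C ψ inf_le_left
  have hφ : ∀ g, φ (π g) = ψ g := fun g => QuotientGroup.lift_mk _ _ _
  have hsurj : Function.Surjective π := QuotientGroup.mk'_surjective C
  have hker : φ.ker = ψ.ker.map π := by
    ext z
    obtain ⟨g, rfl⟩ := hsurj z
    rw [MonoidHom.mem_ker, hφ]
    refine ⟨fun h => ⟨g, h, rfl⟩, ?_⟩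
    rintro ⟨g', hg', e⟩
    rw [← hφ, ← e, hφ]; exact hg'
  have cover : Cover hq φ (π '' D) :=
    { surj := fun y => by obtain ⟨g, rfl⟩ := P.surj y; exact ⟨π g, hφ g⟩
      central := by
        rw [hker]
        rintro _ ⟨q, hq'', rfl⟩
        refine mem_center_iff.mpr fun z => ?_
        obtain ⟨g, rfl⟩ := hsurj z
        have h1 : π (q * g * q⁻¹ * g⁻¹) = 1 :=
          (QuotientGroup.eq_one_iff _).mpr (hAC (P.commutator_mem_blocks hq'' g))
        rw [map_mul, map_mul, map_mul, map_inv, map_inv, mul_inv_eq_one, mul_inv_eq_iff_eq_mul] at h1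
        exact h1.symm
      two := by rw [hker]; exact P.two.map π
      sq := by
        rintro _ ⟨d, hd, rfl⟩
        rw [← map_mul, P.sq_one hd, map_one]
      conj := by
        rintro _ ⟨d, hd, rfl⟩ z
        obtain ⟨g, rfl⟩ := hsurj z
        exact ⟨_, P.conj_mem hd g, by simp only [map_mul, map_inv]⟩
      gen := by
        rw [← MonoidHom.map_closure, P.cls.2.2, ← MonoidHom.range_eq_map, MonoidHom.range_eq_top.mpr hsurj]
      image := by
        rintro _ ⟨d, hd, rfl⟩
        obtain ⟨v, h1, h2, h3⟩ := P.image hd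
        exact ⟨v, h1, h2, (hφ d).trans h3⟩
      lift := fun v hv0 hv => by
        obtain ⟨d, hd, e⟩ := P.lift hv0 hv
        exact ⟨π d, ⟨d, hd, rfl⟩, (hφ d).trans e⟩
      avoid := fun v hv0 hv => by
        obtain ⟨x, hx, ex⟩ := P.lift hv0 hv
        rw [eq_bot_iff]
        rintro z ⟨hz, hzker⟩
        have hle : closure {e ∈ π '' D | (φ e).1.1 v = v} ≤
            (closure {d ∈ D | (ψ d).1.1 v = v}).map π := by
          rw [closure_le]
          rintro _ ⟨⟨d, hd, rfl⟩, hfix⟩
          exact ⟨d, subset_closure ⟨hd, hφ d ▸ hfix⟩, rfl⟩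
        obtain ⟨g, hg, rfl⟩ := hle hz
        have hgker : g ∈ ψ.ker := (hφ g).symm.trans hzker
        refine (QuotientGroup.eq_one_iff g).mpr ⟨hgker, mem_centralizer_iff.mpr fun c hc => ?_⟩
        refine (P.commute_blocks_of_block hx hgker (fun b hb => ?_) hc).symm.eq
        refine (show ∀ g ∈ closure {d ∈ D | (ψ d).1.1 v = v}, Commute g b from fun g hg => ?_) g hg
        induction hg using closure_induction with
        | mem d hd => exact P.commute_block hx hd.1 (by rw [ex]; exact tv_commute_of_fix hq _ hv hd.2) hb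
        | one => exact Commute.one_left b
        | mul _ _ _ _ u w => exact u.mul_left w
        | inv _ _ u => exact u.inv_left }
  have hbot := cover.ker_eq_bot P.dim
  have h1 : π q = 1 := by
    have : π q ∈ φ.ker := hker ▸ ⟨q, hq', rfl⟩
    rwa [hbot, mem_bot] at this
  exact ((mem_centralizer_iff.mp ((QuotientGroup.eq_one_iff q).mp h1).2) a ha).symm

/-- The kernel is elementary abelian. -/
theorem ker_elementary : Cfsg.IsElementaryAbelian 2 ψ.ker := by
  let c : G → G → G := fun x q => x * (q * x * q⁻¹)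
  have hc : ∀ x ∈ D, ∀ q ∈ ψ.ker, c x q ∈ blocks ψ D := fun x hx q hq' =>
    subset_closure ⟨x, hx, q * x * q⁻¹, P.conj_mem hx q, by
      rw [map_mul, map_mul, map_inv, MonoidHom.mem_ker.mp hq', inv_one, one_mul, mul_one], rfl⟩
  have hmul : ∀ x ∈ D, ∀ q ∈ ψ.ker, ∀ r ∈ ψ.ker, c x (q * r) = c x q * c x r := by
    intro x hx q hq' r hr
    have hk := (P.ker_commute hq' (hc x hx r hr)).eq
    calc c x (q * r) = x * (q * (x * x) * r * x * r⁻¹ * q⁻¹) := by
          rw [P.sq_one hx, mul_one]; show x * (q * r * x * (q * r)⁻¹) = _; group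
      _ = x * (q * x * q⁻¹) * (q * c x r * q⁻¹) := by show _ = _ * (q * (x * (r * x * r⁻¹)) * q⁻¹); group
      _ = c x q * c x r := by rw [hk, mul_inv_cancel_right]
  have hinj : ∀ k : G, (∀ x ∈ D, k * x * k⁻¹ = x) → k = 1 := by
    intro k hk
    have hcen : k ∈ center G := mem_center_iff.mpr fun g => by
      have hg : g ∈ closure D := P.cls.2.2 ▸ mem_top g
      induction hg using closure_induction with
      | mem x hx => exact (mul_inv_eq_iff_eq_mul.mp (hk x hx)).symm
      | one => rw [one_mul, mul_one]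
      | mul u v _ _ hu hv => rw [mul_assoc, hv, ← mul_assoc, hu, mul_assoc]
      | inv u _ hu => exact (Commute.inv_left (show Commute u k from hu)).eq
    rwa [P.trivialCenter, mem_bot] at hcen
  refine ⟨⟨⟨fun a b => Subtype.ext ?_⟩⟩, fun a ha => ?_⟩
  · show (a : G) * b = b * a
    have : ((b : G) * a)⁻¹ * (a * b) = 1 := hinj _ fun x hx => by
      have h1 := hmul x hx a a.2 b b.2
      rw [(P.blocks_commute (hc x hx a a.2) (hc x hx b b.2)).eq, ← hmul x hx b b.2 a a.2] at h1
      have h2 : (a : G) * b * x * ((a : G) * b)⁻¹ = b * a * x * ((b : G) * a)⁻¹ := mul_left_cancel h1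
      calc ((b : G) * a)⁻¹ * (a * b) * x * (((b : G) * a)⁻¹ * (a * b))⁻¹
          = ((b : G) * a)⁻¹ * ((a : G) * b * x * ((a : G) * b)⁻¹) * (b * a) := by group
        _ = x := by rw [h2]; group
    exact (inv_mul_eq_one.mp this).symm
  · refine hinj _ fun x hx => ?_
    have h1 := hmul x hx a ha a ha
    rw [P.blocks_sq (hc x hx a ha)] at h1
    have h2 := eq_inv_of_mul_eq_one_right h1
    rw [P.inv_self hx, ← pow_two] at h2
    exact h2

end Quot

end Cfsg.Lib.TTUnitary
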