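import Cfsg.Agent.ThreeTransposition.UnitaryRadical.Geometry
import Mathlib.GroupTheory.Perm.Cycle.Type

/-!
# Transvections generate, and stabilisers of isotropic vectors

For nondegenerate subspaces of dimension two, four, five and seven over the field with four elements the
transvections generate the special unitary group; isotropic vectors come in odd numbers.
-/

set_option autoImplicit false
set_option linter.unusedSectionVars false

namespace Cfsg.Lib.TTUnitary

open Cfsg.Lib.Classical

universe u v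

variable {F : Type u} [Field F] {V : Type v} [AddCommGroup V] [Module F V] {H : HermSpace F V}

/-- `g` fixes the orthogonal of `U`. -/
def Supp (H : HermSpace F V) (U : Submodule F V) (g : H.SIsom) : Prop := ∀ x ∈ H.orth U, g.1.1 x = x

variable (hq : Four H)

/-- The group generated by the transvections at vectors of `U`. -/
noncomputable def lg (U : Submodule F V) : Subgroup H.SIsom :=
  Subgroup.closure {t | ∃ v ∈ U, v ≠ 0 ∧ H.h v v = 0 ∧ t = tv hq v}

/-- The group generated by the transvections at vectors of `U` orthogonal to `a`. -/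
noncomputable def lp (U : Submodule F V) (a : V) : Subgroup H.SIsom :=
  Subgroup.closure {t | ∃ v ∈ U, v ≠ 0 ∧ H.h v v = 0 ∧ H.h v a = 0 ∧ t = tv hq v}

include hq

theorem tv_mem_lg {U : Submodule F V} {v : V} (hvU : v ∈ U) (hv0 : v ≠ 0) (hv : H.h v v = 0) :
    tv hq v ∈ lg hq U := Subgroup.subset_closure ⟨v, hvU, hv0, hv, rfl⟩

theorem tv_mem_lp {U : Submodule F V} {a v : V} (hvU : v ∈ U) (hv0 : v ≠ 0) (hv : H.h v v = 0)
    (hva : H.h v a = 0) : tv hq v ∈ lp hq U a := Subgroup.subset_closure ⟨v, hvU, hv0, hv, hva, rfl⟩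

theorem lg_mono {U U' : Submodule F V} (h : U ≤ U') : lg hq U ≤ lg hq U' :=
  Subgroup.closure_mono fun _ ⟨v, hv, r⟩ => ⟨v, h hv, r⟩

theorem lp_le_lg (U : Submodule F V) (a : V) : lp hq U a ≤ lg hq U :=
  Subgroup.closure_mono fun _ ⟨v, h1, h2, h3, _, h5⟩ => ⟨v, h1, h2, h3, h5⟩

theorem lg_perp2_le_lp (U : Submodule F V) (a b : V) : lg hq (perp2 H U a b) ≤ lp hq U a :=
  Subgroup.closure_mono fun _ ⟨v, h1, h2, h3, h5⟩ =>
    ⟨v, (mem_perp2.mp h1).1, h2, h3, (mem_perp2.mp h1).2.1, h5⟩

theorem fix_of_mem_lp {U : Submodule F V} {a : V} {g : H.SIsom} (hg : g ∈ lp hq U a) : g.1.1 a = a := by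
  induction hg using Subgroup.closure_induction with
  | mem t ht =>
    obtain ⟨v, -, -, hv, hva, rfl⟩ := ht
    exact tv_fix hq hv (H.eq_zero_symm hva)
  | one => rfl
  | mul x y _ _ hx hy => rw [H.smul_mul_apply, hy, hx]
  | inv x _ hx =>
    conv_lhs => rw [← hx]
    exact H.inv_apply_self x.1 a

theorem supp_of_mem_lg {U : Submodule F V} {g : H.SIsom} (hg : g ∈ lg hq U) : Supp H U g := by
  induction hg using Subgroup.closure_induction with
  | mem t ht =>
    obtain ⟨v, hvU, -, hv, rfl⟩ := ht
    exact fun x hx => tv_fix hq hv (hx v hvU)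
  | one => exact fun x _ => rfl
  | mul x y _ _ hx hy => exact fun z hz => by rw [H.smul_mul_apply, hy z hz, hx z hz]
  | inv x _ hx =>
    intro z hz
    conv_lhs => rw [← hx z hz]
    exact H.inv_apply_self x.1 z

omit hq

theorem Supp.mul {U : Submodule F V} {g k : H.SIsom} (hg : Supp H U g) (hk : Supp H U k) :
    Supp H U (g * k) := fun x hx => by rw [H.smul_mul_apply, hk x hx, hg x hx]

theorem Supp.inv {U : Submodule F V} {g : H.SIsom} (hg : Supp H U g) : Supp H U g⁻¹ := fun x hx => by
  conv_lhs => rw [← hg x hx]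
  exact H.inv_apply_self g.1 x

variable [Finite F] [FiniteDimensional F V]

theorem Supp.apply_mem {U : Submodule F V} {g : H.SIsom} (hg : Supp H U g) {x : V} (hx : x ∈ U) :
    g.1.1 x ∈ U := by
  rw [← H.orth_orth U]
  intro z hz
  rw [← hg z hz, H.map_form]
  exact H.eq_zero_symm (hz x hx)

theorem Supp.ext {U : Submodule F V} (hU : H.NondegOn U) {g k : H.SIsom} (hg : Supp H U g)
    (hk : Supp H U k) (h : ∀ x ∈ U, g.1.1 x = k.1.1 x) : g = k :=
  Subtype.ext (H.eq_of_fix_orth hU h fun x hx => (hg x hx).trans (hk x hx).symm)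

include hq

theorem supp_perp2 {U : Submodule F V} {a b : V} (p : Pair H U a b) {g : H.SIsom} (hg : Supp H U g)
    (ha : g.1.1 a = a) (hb : g.1.1 b = b) : Supp H (perp2 H U a b) g := by
  intro x hx
  set y := x + H.h x b • a + H.h x a • b with hy
  have hya : H.h y a = 0 := by
    rw [hy, H.add_left, H.add_left, H.smul_left, H.smul_left, p.iso_left, p.flip, mul_zero, add_zero, mul_one]
    exact hq.add_self _
  have hyb : H.h y b = 0 := by
    rw [hy, H.add_left, H.add_left, H.smul_left, H.smul_left, p.iso_right, p.prod, mul_zero, add_zero, mul_one]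
    exact hq.add_self _
  have hyU : y ∈ H.orth U := fun u hu => by
    have hm := p.proj_mem hq hu
    rw [p.decomp hq u]
    obtain ⟨-, hma, hmb⟩ := mem_perp2.mp hm
    have h1 : H.h y (u + H.h u b • a + H.h u a • b) = 0 := by
      rw [hy, H.add_left, H.add_left, H.smul_left, H.smul_left, hx _ hm, H.eq_zero_symm hma,
        H.eq_zero_symm hmb, mul_zero, mul_zero, add_zero, add_zero]
    rw [H.add_right, h1, H.add_right, H.smul_right, H.smul_right, hya, hyb, mul_zero, mul_zero, add_zero,
      add_zero]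
  have e : x = y + (H.h x b • a + H.h x a • b) := p.decomp hq x
  clear_value y
  conv_lhs => rw [e]
  rw [map_add, map_add, map_smul, map_smul, ha, hb, hg y hyU, ← e]

theorem supp_perp1 {U : Submodule F V} {w : V} (hw : w ∈ U) (hww : H.h w w = 1) {g : H.SIsom}
    (hg : Supp H U g) (hgw : g.1.1 w = w) : Supp H (perp1 H U w) g := by
  intro x hx
  set y := x + H.h x w • w with hy
  have hyw : H.h y w = 0 := by rw [hy, H.add_left, H.smul_left, hww, mul_one]; exact hq.add_self _
  have hyU : y ∈ H.orth U := fun u hu => by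
    have hm : u + H.h u w • w ∈ perp1 H U w := mem_perp1.mpr ⟨U.add_mem hu (U.smul_mem _ hw), by
      rw [H.add_left, H.smul_left, hww, mul_one]; exact hq.add_self _⟩
    have h1 : H.h y (u + H.h u w • w) = 0 := by
      rw [hy, H.add_left, hx _ hm, H.smul_left, H.eq_zero_symm (mem_perp1.mp hm).2, mul_zero, add_zero]
    rwa [H.add_right, H.smul_right, hyw, mul_zero, add_zero] at h1
  have e : x = y + H.h x w • w := (hq.vadd_cancel _ _).symm
  clear_value y
  conv_lhs => rw [e]
  rw [map_add, map_smul, hgw, hg y hyU, ← e]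

/-- Transvections are transitive on non-zero isotropic vectors. -/
theorem trans_iso {U : Submodule F V} (hU : H.NondegOn U) (hd : 3 ≤ Module.finrank F U) {a b : V}
    (haU : a ∈ U) (hbU : b ∈ U) (ha0 : a ≠ 0) (hb0 : b ≠ 0) (ha : H.h a a = 0) (hb : H.h b b = 0) :
    ∃ l ∈ lg hq U, l.1.1 a = b := by
  have key : ∀ {a b : V}, a ∈ U → b ∈ U → H.h a a = 0 → H.h b b = 0 → H.h a b ≠ 0 →
      ∃ l ∈ lg hq U, l.1.1 a = b := by
    intro a b haU hbU ha hb hk
    set k := H.h a b with hkd
    have p : Pair H U a (k • b) := ⟨haU, U.smul_mem _ hbU, ha, by rw [hq.h_smul_smul hk, hb], by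
      rw [H.smul_right, ← hkd, hq.norm_flip hk]⟩
    obtain ⟨s, hs, hss⟩ := exists_unit (p.nondeg hq hU) (by have := p.finrank hq; omega)
    obtain ⟨hsU, hsa, hsb⟩ := mem_perp2.mp hs
    have hsb' : H.h s b = 0 := by
      rw [H.smul_right, mul_eq_zero] at hsb
      exact hsb.resolve_left fun e => hk (H.conj.eq_zero.mp e)
    have hba : H.h b a = H.σ k := H.symm b a
    set c₀ := H.σ k • a + k • b with hc₀
    have hca₀ : H.h c₀ a = 1 := by
      rw [hc₀, H.add_left, H.smul_left, H.smul_left, ha, hba, mul_zero, zero_add, hq.norm k hk]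
    have hcb₀ : H.h c₀ b = 1 := by
      rw [hc₀, H.add_left, H.smul_left, H.smul_left, hb, ← hkd, mul_zero, add_zero, hq.norm_flip hk]
    have hcs : H.h c₀ s = 0 := by
      rw [hc₀, H.add_left, H.smul_left, H.smul_left, H.eq_zero_symm hsa, H.eq_zero_symm hsb', mul_zero,
        mul_zero, add_zero]
    clear_value c₀
    set c := c₀ + H.h c₀ c₀ • s with hc
    have hcU : c ∈ U := by
      rw [hc, hc₀]; exact U.add_mem (U.add_mem (U.smul_mem _ haU) (U.smul_mem _ hbU)) (U.smul_mem _ hsU)
    have hcc : H.h c c = 0 := by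
      rw [hc, H.add_left, H.add_right, H.add_right, H.smul_left, H.smul_right, H.smul_left, H.smul_right,
        hcs, H.eq_zero_symm hcs, hss, H.self_fixed]
      rcases hq.self_cases c₀ with e | e <;> rw [e]
      · ring
      · linear_combination hq.two
    have hca : H.h c a = 1 := by rw [hc, H.add_left, H.smul_left, hsa, hca₀, mul_zero, add_zero]
    have hcb : H.h c b = 1 := by rw [hc, H.add_left, H.smul_left, hsb', hcb₀, mul_zero, add_zero]
    have hac : H.h a c = 1 := by rw [H.symm, hca, map_one]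
    clear_value c
    have u0 : a + c ≠ 0 := fun e => by rw [← hq.eq_of_vadd e, ha] at hac; exact zero_ne_one hac
    have v0 : c + b ≠ 0 := fun e => by rw [hq.eq_of_vadd e, hb] at hcb; exact zero_ne_one hcb
    have u1 : H.h (a + c) (a + c) = 0 := by
      rw [H.add_left, H.add_right, H.add_right, ha, hcc, hac, hca]; linear_combination hq.two
    have v1 : H.h (c + b) (c + b) = 0 := by
      rw [H.add_left, H.add_right, H.add_right, hcc, hb, hcb, H.symm b c, hcb, map_one]
      linear_combination hq.two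
    refine ⟨tv hq (c + b) * tv hq (a + c),
      Subgroup.mul_mem _ (tv_mem_lg hq (U.add_mem hcU hbU) v0 v1) (tv_mem_lg hq (U.add_mem haU hcU) u0 u1), ?_⟩
    rw [H.smul_mul_apply, tv_move hq u1 (by rw [H.add_right, ha, hac, zero_add]), ← add_assoc, hq.vadd_self,
      zero_add, tv_move hq v1 (by rw [H.add_right, hcc, hcb, zero_add]), ← add_assoc, hq.vadd_self, zero_add]
  suffices ∃ c ∈ U, H.h c c = 0 ∧ H.h a c ≠ 0 ∧ H.h c b ≠ 0 by
    obtain ⟨c, hcU, hcc, h1, h2⟩ := this
    obtain ⟨l, hl, el⟩ := key haU hcU ha hcc h1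
    obtain ⟨l', hl', el'⟩ := key hcU hbU hcc hb h2
    exact ⟨l' * l, Subgroup.mul_mem _ hl' hl, by rw [H.smul_mul_apply, el, el']⟩
  obtain ⟨a', pa⟩ := exists_pair hU haU ha0 ha
  obtain ⟨b', pb⟩ := exists_pair hU hbU hb0 hb
  by_cases h1 : H.h a' b = 0
  · by_cases h2 : H.h a b' = 0
    · obtain ⟨μ, hμ0, hμ⟩ : ∃ μ : F, μ ≠ 0 ∧ H.σ μ * H.h a' b' + μ * H.h b' a' = 0 := by
        by_cases h3 : H.h a' b' = 0
        · exact ⟨1, one_ne_zero, by rw [h3, H.eq_zero_symm h3, mul_zero, mul_zero, add_zero]⟩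
        · refine ⟨H.h a' b', h3, ?_⟩
          rw [H.symm b' a', hq.norm _ h3, hq.norm_flip h3]
          exact hq.add_self 1
      refine ⟨a' + μ • b', U.add_mem pa.mem_right (U.smul_mem _ pb.mem_right), ?_, ?_, ?_⟩
      · rw [H.add_left, H.add_right, H.add_right, pa.iso_right, H.smul_right, H.smul_left, H.smul_left,
          H.smul_right, pb.iso_right]
        linear_combination hμ
      · rw [H.add_right, pa.prod, H.smul_right, h2, mul_zero, add_zero]; exact one_ne_zero
      · rw [H.add_left, h1, H.smul_left, pb.flip, zero_add, mul_one]; exact hμ0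
    · exact ⟨b', pb.mem_right, pb.iso_right, h2, by rw [pb.flip]; exact one_ne_zero⟩
  · exact ⟨a', pa.mem_right, pa.iso_right, by rw [pa.prod]; exact one_ne_zero, h1⟩

/-- Moving the partner of an isotropic vector by transvections fixing it. -/
theorem shift {U : Submodule F V} (hU : H.NondegOn U) (hd : Module.finrank F U ≠ 3) {a b b' : V}
    (p : Pair H U a b) (p' : Pair H U a b') : ∃ l ∈ lp hq U a, l.1.1 b = b' := by
  have one : ∀ {b b' : V}, Pair H U a b → Pair H U a b' → H.h b b' = 1 → ∃ l ∈ lp hq U a, l.1.1 b = b' := by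
    intro b b' p p' h
    have h' : H.h b' b = 1 := by rw [H.symm, h, map_one]
    have e : H.h (b + b') (b + b') = 0 := by
      rw [H.add_left, H.add_right, H.add_right, p.iso_right, p'.iso_right, h, h']; linear_combination hq.two
    refine ⟨tv hq (b + b'), tv_mem_lp hq (U.add_mem p.mem_right p'.mem_right) (fun e0 => ?_) e
      (by rw [H.add_left, p.flip, p'.flip]; exact hq.add_self 1), ?_⟩
    · rw [hq.eq_of_vadd e0, p'.iso_right] at h; exact zero_ne_one h
    · rw [tv_move hq e (by rw [H.add_right, p.iso_right, h, zero_add]), ← add_assoc, hq.vadd_self, zero_add]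
  by_cases h1 : H.h b b' = 1
  · exact one p p' h1
  by_cases hbb : b = b'
  · exact ⟨1, Subgroup.one_mem _, hbb⟩
  set k := H.h b b' with hk
  obtain ⟨z, hzU, hza, hzb, hzz, hzb'⟩ :
      ∃ z ∈ U, H.h z a = 0 ∧ H.h z b = 0 ∧ H.h z z = 0 ∧ H.h z b' = k := by
    by_cases h0 : k = 0
    · exact ⟨0, U.zero_mem, H.zero_left _, H.zero_left _, H.zero_left _, by rw [H.zero_left, h0]⟩
    have hm := p.proj_mem hq p'.mem_right
    rw [p'.flip, one_smul, H.symm b' b, ← hk] at hm
    have hw : b' + H.σ k • a + b ≠ 0 := by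
      intro e
      have hb' : b' = H.σ k • a + b := hq.eq_of_vadd (by rwa [← add_assoc])
      have e' := p'.iso_right
      rw [hb', H.add_left, H.add_right, H.add_right, H.smul_left, H.smul_right, p.iso_left, H.smul_left,
        H.smul_right, p.prod, p.flip, p.iso_right, H.conj.invol] at e'
      have hkσ : H.σ k = k := hq.eq_of_add (by linear_combination e')
      exact (hq.fixed_cases hkσ).elim h0 h1
    have hd2 : 2 ≤ Module.finrank F (perp2 H U a b) := by
      have := p.finrank hq
      rcases Nat.eq_zero_or_pos (Module.finrank F (perp2 H U a b)) with h | h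
      · rw [Submodule.finrank_eq_zero] at h
        rw [h, Submodule.mem_bot] at hm
        exact absurd hm hw
      · omega
    obtain ⟨z, hz, hzz, hzw⟩ := exists_iso_prod hq (p.nondeg hq hU) hd2 hm hw k
    obtain ⟨hzU, hza, hzb⟩ := mem_perp2.mp hz
    refine ⟨z, hzU, hza, hzb, hzz, ?_⟩
    rw [← hzw, H.add_right, H.add_right, H.smul_right, hza, hzb, mul_zero, add_zero, add_zero]
  set c := a + b + z with hc
  have haz := H.eq_zero_symm hza
  have hbz := H.eq_zero_symm hzb
  have pc : Pair H U a c := ⟨p.mem_left, U.add_mem (U.add_mem p.mem_left p.mem_right) hzU, p.iso_left, by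
    simp only [hc, H.add_left, H.add_right, p.iso_left, p.iso_right, p.prod, p.flip, hza, hzb, haz, hbz,
      hzz]
    linear_combination hq.two, by
    rw [hc, H.add_right, H.add_right, p.iso_left, p.prod, haz, zero_add, add_zero]⟩
  obtain ⟨l, hl, el⟩ := one p pc (by
    rw [hc, H.add_right, H.add_right, p.flip, p.iso_right, hbz, add_zero, add_zero])
  obtain ⟨l', hl', el'⟩ := one pc p' (by
    rw [hc, H.add_left, H.add_left, p'.prod, ← hk, hzb']; linear_combination k * hq.two)
  exact ⟨l' * l, Subgroup.mul_mem _ hl' hl, by rw [H.smul_mul_apply, el, el']⟩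

/-- Reduction of the stabiliser of an isotropic vector to that of a pair. -/
theorem stab_step {U : Submodule F V} (hU : H.NondegOn U) (hd : Module.finrank F U ≠ 3) {a b : V}
    (p : Pair H U a b) (T : Subgroup H.SIsom) (hle : lp hq U a ≤ T)
    (hT : ∀ g : H.SIsom, Supp H U g → g.1.1 a = a → g.1.1 b = b → g ∈ T)
    {g : H.SIsom} (hg : Supp H U g) (hga : g.1.1 a = a) : g ∈ T := by
  have hb' : H.h a (g.1.1 b) = 1 := by rw [← hga, H.map_form]; exact p.prod
  obtain ⟨l, hl, el⟩ := shift hq hU hd p
    ⟨p.mem_left, hg.apply_mem p.mem_right, p.iso_left, by rw [H.map_form, p.iso_right], hb'⟩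
  have hls := supp_of_mem_lg hq (lp_le_lg hq U a hl)
  have := hT (l⁻¹ * g) (hls.inv.mul hg)
    (by rw [H.smul_mul_apply, hga, fix_of_mem_lp hq ((lp hq U a).inv_mem hl)])
    (by rw [H.smul_mul_apply, ← el]; exact H.inv_apply_self l.1 b)
  simpa using T.mul_mem (hle hl) this

theorem gen_of_stab {U : Submodule F V} (hU : H.NondegOn U) (hd : 3 ≤ Module.finrank F U) {a : V}
    (haU : a ∈ U) (ha0 : a ≠ 0) (ha : H.h a a = 0)
    (hst : ∀ g : H.SIsom, Supp H U g → g.1.1 a = a → g ∈ lg hq U) {g : H.SIsom} (hg : Supp H U g) :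
    g ∈ lg hq U := by
  obtain ⟨l, hl, el⟩ := trans_iso hq hU hd (hg.apply_mem haU) haU (H.isom_ne_zero g.1 ha0) ha0
    (by rw [H.map_form, ha]) ha
  have := hst (l * g) ((supp_of_mem_lg hq hl).mul hg) (by rw [H.smul_mul_apply, el])
  simpa using (lg hq U).mul_mem ((lg hq U).inv_mem hl) this

/-- In dimension two. -/
theorem gen_two {U : Submodule F V} (hU : H.NondegOn U) (hd : Module.finrank F U = 2) {g : H.SIsom}
    (hg : Supp H U g) : g ∈ lg hq U := by
  obtain ⟨a, haU, ha0, ha⟩ := exists_iso hU (by omega)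
  obtain ⟨b, p⟩ := exists_pair hU haU ha0 ha
  have hspan : ∀ x ∈ U, x = H.h x b • a + H.h x a • b := fun x hx => by
    have h0 : perp2 H U a b = ⊥ := Submodule.finrank_eq_zero.mp (by have := p.finrank hq; omega)
    have hm := p.proj_mem hq hx
    rw [h0, Submodule.mem_bot, add_assoc] at hm
    exact hq.eq_of_vadd hm
  have dia : ∀ g : H.SIsom, Supp H U g → (∃ l : F, g.1.1 a = l • a) → g ∈ lg hq U := by
    rintro g hg ⟨l, hl⟩
    have hl0 : l ≠ 0 := fun e => H.isom_ne_zero g.1 ha0 (by rw [hl, e, zero_smul])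
    have hab : H.h (g.1.1 a) (g.1.1 b) = 1 := by rw [H.map_form]; exact p.prod
    set c := g.1.1 b with hc
    have hcc : H.h c c = 0 := by rw [hc, H.map_form, p.iso_right]
    have hcU : c ∈ U := hg.apply_mem p.mem_right
    rw [hl, H.smul_left] at hab
    have hca : H.h c a = l := by
      have h1 : H.h a c = H.σ l := by
        calc H.h a c = H.σ l * (l * H.h a c) := by rw [← mul_assoc, hq.norm_flip hl0, one_mul]
          _ = H.σ l := by rw [hab, mul_one]
      rw [H.symm, h1, H.conj.invol]
    obtain ⟨k, hk, ek⟩ : ∃ k ∈ lg hq U, k.1.1 a = a ∧ k.1.1 c = l • b := by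
      have ec := hspan c hcU
      rw [hca] at ec
      by_cases h0 : H.h c b = 0
      · exact ⟨1, Subgroup.one_mem _, rfl, by rw [h0, zero_smul, zero_add] at ec; exact ec⟩
      · have hlc : H.h c b = l := by
          have e := hcc
          rw [ec, H.add_left, H.add_right, H.add_right, H.smul_left, H.smul_right, p.iso_left, H.smul_left,
            H.smul_right, p.prod, H.smul_left, H.smul_right, p.flip, H.smul_left, H.smul_right,
            p.iso_right] at e
          exact hq.eq_of_add (mul_self_eq_zero.mp (by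
            linear_combination (H.h c b * l) * e - (H.h c b * H.h c b) * hq.norm l hl0
              - (l * l) * hq.norm _ h0 + (H.h c b * l) * hq.two))
        refine ⟨tv hq a, tv_mem_lg hq haU ha0 ha, tv_fix hq ha ha, ?_⟩
        rw [tv_apply hq ha, hca, ec, hlc]
        calc l • a + l • b + l • a = l • b + (l • a + l • a) := by abel
          _ = _ := by rw [hq.vadd_self, add_zero]
    have hs := (supp_of_mem_lg hq hk).mul hg
    have hka : (k * g).1.1 a = l • a := by rw [H.smul_mul_apply, hl, map_smul, ek.1]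
    have hkb : (k * g).1.1 b = l • b := by rw [H.smul_mul_apply]; exact ek.2
    suffices k * g = 1 by
      rw [show g = k⁻¹ from eq_inv_of_mul_eq_one_right this]
      exact Subgroup.inv_mem _ hk
    set s := k * g
    obtain ⟨ω, hω⟩ := H.conj.exists_trace_one
    have hω0 : ω ≠ 0 := fun e => by rw [e, map_zero, add_zero] at hω; exact zero_ne_one hω
    set v₁ := a + ω • b with hv₁d
    set v₂ := a + H.σ ω • b with hv₂d
    have hv₁ : H.h v₁ v₁ = 1 := by
      rw [hv₁d, H.add_left, H.add_right, H.add_right, H.smul_left, H.smul_right, H.smul_left, H.smul_right,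
        p.iso_left, p.prod, p.flip, p.iso_right]
      linear_combination hω
    have hv₂ : H.h v₂ v₂ = 1 := by
      rw [hv₂d, H.add_left, H.add_right, H.add_right, H.smul_left, H.smul_right, H.smul_left, H.smul_right,
        p.iso_left, p.prod, p.flip, p.iso_right, H.conj.invol]
      linear_combination hω
    have hv12 : H.h v₁ v₂ = 0 := by
      rw [hv₁d, hv₂d, H.add_left, H.add_right, H.add_right, H.smul_left, H.smul_right, H.smul_left,
        H.smul_right, p.iso_left, p.prod, p.flip, p.iso_right, H.conj.invol]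
      linear_combination ω * hq.two
    have hv21 := H.eq_zero_symm hv12
    have v₁U : v₁ ∈ U := U.add_mem haU (U.smul_mem _ p.mem_right)
    have v₂U : v₂ ∈ U := U.add_mem haU (U.smul_mem _ p.mem_right)
    let z : (normUnits H.σ).ker := ⟨Units.mk0 l hl0, MonoidHom.mem_ker.mpr (Units.ext (by
      rw [coe_normUnits]; exact hq.norm l hl0))⟩
    set q := H.qrefl hv₁ z * H.qrefl hv₂ z with hqd
    have q1 : q.1 v₁ = l • v₁ := by
      rw [hqd, H.mul_apply', H.qrefl_orth hv₂ z hv12, H.qrefl_self hv₁ z]; rfl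
    have q2 : q.1 v₂ = l • v₂ := by
      rw [hqd, H.mul_apply', H.qrefl_self hv₂ z, map_smul, H.qrefl_orth hv₁ z hv21]; rfl
    have eb : (ω + H.σ ω) • b = v₁ + v₂ := by
      rw [hv₁d, hv₂d, add_smul]
      calc ω • b + H.σ ω • b = (a + a) + (ω • b + H.σ ω • b) := by rw [hq.vadd_self, zero_add]
        _ = _ := by abel
    rw [hω, one_smul] at eb
    have qb : q.1 b = l • b := by
      rw [show q.1 b = q.1 (v₁ + v₂) by rw [← eb], map_add, q1, q2, ← smul_add, ← eb]
    have qa : q.1 a = l • a := by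
      have ea : a = v₁ + ω • b := by rw [hv₁d, hq.vadd_cancel]
      rw [show q.1 a = q.1 (v₁ + ω • b) by rw [← ea], map_add, map_smul, q1, qb, smul_comm, ← smul_add, ← ea]
    have hsq : s.1 = q := by
      refine H.eq_of_fix_orth hU (fun x hx => ?_) fun x hx => ?_
      · rw [hspan x hx, map_add, map_add, map_smul, map_smul, map_smul, map_smul, hka, hkb, qa, qb]
      · rw [hs x hx, hqd, H.mul_apply', H.qrefl_orth hv₂ z (hx _ v₂U), H.qrefl_orth hv₁ z (hx _ v₁U)]
    have hdet : H.detHom q = 1 := by rw [← hsq]; exact MonoidHom.mem_ker.mp s.2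
    rw [hqd, map_mul, H.det_qrefl, H.det_qrefl] at hdet
    have hl1 : l = 1 := by
      have h2 : l * l = 1 := congrArg Units.val hdet
      have : (l + 1) * (l + 1) = 0 := by linear_combination h2 + (l + 1) * hq.two
      exact hq.eq_of_add (mul_self_eq_zero.mp this)
    refine Supp.ext hU hs (fun x _ => rfl) fun x hx => ?_
    rw [hspan x hx, map_add, map_smul, map_smul, hka, hkb, hl1, one_smul, one_smul]
    rfl
  set c := g.1.1 a with hc
  have hcU : c ∈ U := hg.apply_mem haU
  have hcc : H.h c c = 0 := by rw [hc, H.map_form, ha]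
  by_cases h0 : H.h a c = 0
  · refine dia g hg ⟨H.h c b, ?_⟩
    rw [← hc]
    have e := hspan c hcU
    rwa [H.eq_zero_symm h0, zero_smul, add_zero] at e
  · set μ := H.h a c with hμ
    have hμc : H.h (μ • c) (μ • c) = 0 := by rw [hq.h_smul_smul h0, hcc]
    have hac : H.h a (μ • c) = 1 := by rw [H.smul_right, ← hμ, hq.norm_flip h0]
    have hca : H.h (μ • c) a = 1 := by rw [H.symm, hac, map_one]
    have hv : H.h (a + μ • c) (a + μ • c) = 0 := by
      rw [H.add_left, H.add_right, H.add_right, ha, hμc, hac, hca]; linear_combination hq.two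
    have hv0 : a + μ • c ≠ 0 := fun e => by rw [← hq.eq_of_vadd e, ha] at hac; exact zero_ne_one hac
    have ht := tv_mem_lg hq (U.add_mem haU (U.smul_mem _ hcU)) hv0 hv
    have e : (tv hq (a + μ • c)).1.1 c = μ⁻¹ • a := by
      have e' : (tv hq (a + μ • c)).1.1 (μ • c) = a := by
        rw [tv_move hq hv (by rw [H.add_right, hca, hμc, add_zero]), add_left_comm, hq.vadd_self, add_zero]
      calc (tv hq (a + μ • c)).1.1 c = μ⁻¹ • (tv hq (a + μ • c)).1.1 (μ • c) := by
            rw [map_smul, smul_smul, inv_mul_cancel₀ h0, one_smul]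
        _ = _ := by rw [e']
    have := dia (tv hq (a + μ • c) * g) ((supp_of_mem_lg hq ht).mul hg)
      ⟨μ⁻¹, by rw [H.smul_mul_apply, ← hc, e]⟩
    simpa using (lg hq U).mul_mem ((lg hq U).inv_mem ht) this

theorem gen_four {U : Submodule F V} (hU : H.NondegOn U) (hd : Module.finrank F U = 4) {g : H.SIsom}
    (hg : Supp H U g) : g ∈ lg hq U := by
  obtain ⟨a, haU, ha0, ha⟩ := exists_iso hU (by omega)
  obtain ⟨b, p⟩ := exists_pair hU haU ha0 ha
  refine gen_of_stab hq hU (by omega) haU ha0 ha (fun g hg hga => stab_step hq hU (by omega) p _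
    (lp_le_lg hq U a) (fun k hk hka hkb => ?_) hg hga) hg
  exact lg_mono hq inf_le_left
    (gen_two hq (p.nondeg hq hU) (by have := p.finrank hq; omega) (supp_perp2 hq p hk hka hkb))

/-- A norm one vector on a hyperbolic line. -/
theorem exists_unit_on_pair {U : Submodule F V} {a b : V} (p : Pair H U a b) :
    ∃ ω : F, ω ≠ 0 ∧ H.h (a + ω • b) (a + ω • b) = 1 := by
  obtain ⟨ω, hω⟩ := H.conj.exists_trace_one
  refine ⟨ω, fun e => by rw [e, map_zero, add_zero] at hω; exact zero_ne_one hω, ?_⟩
  rw [H.add_left, H.add_right, H.add_right, H.smul_left, H.smul_right, H.smul_left, H.smul_right,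
    p.iso_left, p.prod, p.flip, p.iso_right]
  linear_combination hω

theorem gen_five {U : Submodule F V} (hU : H.NondegOn U) (hd : Module.finrank F U = 5) {g : H.SIsom}
    (hg : Supp H U g) : g ∈ lg hq U := by
  obtain ⟨a, haU, ha0, ha⟩ := exists_iso hU (by omega)
  obtain ⟨b, p⟩ := exists_pair hU haU ha0 ha
  obtain ⟨ω, -, hw⟩ := exists_unit_on_pair hq p
  refine gen_of_stab hq hU (by omega) haU ha0 ha (fun g hg hga => stab_step hq hU (by omega) p _
    (lp_le_lg hq U a) (fun k hk hka hkb => ?_) hg hga) hg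
  have hwU : a + ω • b ∈ U := U.add_mem haU (U.smul_mem _ p.mem_right)
  exact lg_mono hq inf_le_left (gen_four hq (perp1_nondeg hq hU hwU hw)
    (by have := perp1_finrank hq (U := U) hwU hw; omega)
    (supp_perp1 hq hwU hw hk (by rw [map_add, map_smul, hka, hkb])))

/-- An element fixing a pair which is a product of transvections fixing its first member comes from
the orthogonal of the pair. -/
theorem mem_lg_perp2_of_mem_lp {U : Submodule F V} (hU : H.NondegOn U) {a b : V} (p : Pair H U a b)
    {g : H.SIsom} (hg : g ∈ lp hq U a) (hgb : g.1.1 b = b) : g ∈ lg hq (perp2 H U a b) := by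
  have key : ∀ g ∈ lp hq U a, ∃ l ∈ lg hq (perp2 H U a b), ∀ x ∈ perp2 H U a b,
      ∃ α : F, g.1.1 x = l.1.1 x + α • a := by
    intro g hg
    induction hg using Subgroup.closure_induction with
    | mem t ht =>
      obtain ⟨v, hvU, -, hv, hva, rfl⟩ := ht
      have hm := p.proj_mem hq hvU
      rw [hva, zero_smul, add_zero] at hm
      set w := v + H.h v b • a with hwd
      have hww : H.h w w = 0 := by
        rw [hwd, H.add_left, H.add_right, H.add_right, H.smul_left, H.smul_right, H.smul_left, H.smul_right,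
          hv, hva, H.eq_zero_symm hva, p.iso_left]
        ring
      have hxw : ∀ x ∈ perp2 H U a b, H.h x v = H.h x w := fun x hx => by
        rw [hwd, H.add_right, H.smul_right, (mem_perp2.mp hx).2.1, mul_zero, add_zero]
      have hvw : v = w + H.h v b • a := (hq.vadd_cancel _ _).symm
      by_cases hw0 : w = 0
      · refine ⟨1, Subgroup.one_mem _, fun x hx => ⟨0, ?_⟩⟩
        rw [tv_apply hq hv, hxw x hx, hw0, H.zero_right, zero_smul, zero_smul]; rfl
      · refine ⟨tv hq w, tv_mem_lg hq hm hw0 hww, fun x hx => ⟨H.h x w * H.h v b, ?_⟩⟩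
        rw [tv_apply hq hv, tv_apply hq hww, hxw x hx, ← smul_smul, add_assoc, ← smul_add, ← hvw]
    | one => exact ⟨1, Subgroup.one_mem _, fun x _ => ⟨0, by simp⟩⟩
    | mul g k hg' _ hg hk =>
      obtain ⟨l, hl, el⟩ := hg
      obtain ⟨m, hm, em⟩ := hk
      refine ⟨l * m, Subgroup.mul_mem _ hl hm, fun x hx => ?_⟩
      obtain ⟨α, hα⟩ := em x hx
      obtain ⟨β, hβ⟩ := el _ ((supp_of_mem_lg hq hm).apply_mem hx)
      refine ⟨β + α, ?_⟩
      rw [H.smul_mul_apply, H.smul_mul_apply, hα, map_add, map_smul, hβ, fix_of_mem_lp hq hg', add_smul,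
        ← add_assoc]
    | inv g hg' hg =>
      obtain ⟨l, hl, el⟩ := hg
      refine ⟨l⁻¹, Subgroup.inv_mem _ hl, fun x hx => ?_⟩
      obtain ⟨α, hα⟩ := el _ ((supp_of_mem_lg hq (Subgroup.inv_mem _ hl)).apply_mem hx)
      refine ⟨α, ?_⟩
      rw [show l.1.1 ((l⁻¹).1.1 x) = x from H.apply_inv_self l.1 x] at hα
      have e := congrArg (fun t => (g⁻¹).1.1 t) hα
      simp only [map_add, map_smul] at e
      rw [show (g⁻¹).1.1 (g.1.1 ((l⁻¹).1.1 x)) = (l⁻¹).1.1 x from H.inv_apply_self g.1 _,
        fix_of_mem_lp hq ((lp hq U a).inv_mem hg')] at e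
      rw [e, hq.vadd_cancel]
  obtain ⟨l, hl, el⟩ := key g hg
  suffices g = l by rwa [this]
  have hga := fix_of_mem_lp hq hg
  refine Supp.ext (p.nondeg hq hU) (supp_perp2 hq p (supp_of_mem_lg hq (lp_le_lg hq U a hg)) hga hgb)
    (supp_of_mem_lg hq hl) fun x hx => ?_
  obtain ⟨α, hα⟩ := el x hx
  have h1 : H.h (g.1.1 x) b = 0 := by
    conv_lhs => rw [← hgb]
    rw [H.map_form]; exact (mem_perp2.mp hx).2.2
  rw [hα, H.add_left, (mem_perp2.mp ((supp_of_mem_lg hq hl).apply_mem hx)).2.2, H.smul_left, p.prod,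
    zero_add, mul_one] at h1
  rw [hα, h1, zero_smul, add_zero]

/-- The non-zero isotropic vectors of a subspace containing one are odd in number. -/
theorem odd_ncard_iso {U : Submodule F V} {a : V} (haU : a ∈ U) (ha0 : a ≠ 0) (ha : H.h a a = 0) :
    Odd {x : V | x ∈ U ∧ x ≠ 0 ∧ H.h x x = 0}.ncard := by
  classical
  haveI : Finite V := Module.finite_of_finite F
  haveI : Fintype V := Fintype.ofFinite V
  let S := {x : V // x ∈ U ∧ H.h x x = 0}
  let lam : V → F := fun x => if H.h x a = 0 then 1 else H.h x a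
  have hiso : ∀ x : S, (x : V) + lam x • a ∈ U ∧ H.h ((x : V) + lam x • a) ((x : V) + lam x • a) = 0 := by
    intro x
    refine ⟨U.add_mem x.2.1 (U.smul_mem _ haU), ?_⟩
    rw [H.add_left, H.add_right, H.add_right, H.smul_left, H.smul_right, H.smul_left, H.smul_right,
      x.2.2, ha, H.symm a (x : V)]
    simp only [lam]
    split_ifs with h
    · rw [h, map_zero]; ring
    · rw [hq.norm_flip h, hq.norm _ h]
      linear_combination hq.two
  let f : S → S := fun x => ⟨(x : V) + lam x • a, hiso x⟩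
  have hlam : ∀ x : S, lam (f x : V) = lam x := fun x => by
    simp only [lam, f, H.add_left, H.smul_left, ha, mul_zero, add_zero]
  have hinv : Function.Involutive f := fun x => Subtype.ext (by
    show (f x : V) + lam (f x : V) • a = x
    rw [hlam]
    exact hq.vadd_cancel _ _)
  have hnofix : ∀ x, f x ≠ x := fun x e => by
    have e' : (x : V) + lam x • a = x := congrArg Subtype.val e
    rw [add_eq_left, smul_eq_zero] at e'
    refine e'.elim ?_ ha0
    simp only [lam]
    split_ifs with h
    · exact one_ne_zero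
    · exact h
  have h1 : Function.Involutive f := hinv
  haveI : Fact (Nat.Prime 2) := ⟨Nat.prime_two⟩
  have hp : (hinv.toPerm f) ^ 2 ^ 1 = 1 := by
    rw [pow_one, pow_two]
    exact Equiv.ext fun x => h1 x
  have hmod := Equiv.Perm.card_compl_support_modEq hp
  have hsupp : (hinv.toPerm f).support = Finset.univ := by
    ext x
    simp [Equiv.Perm.mem_support, hnofix x]
  rw [hsupp, Finset.compl_univ, Finset.card_empty] at hmod
  have heven : Even (Nat.card S) := by
    rw [Nat.card_eq_fintype_card, even_iff_two_dvd]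
    exact Nat.modEq_zero_iff_dvd.mp hmod.symm
  have hins : {x : V | x ∈ U ∧ H.h x x = 0} = insert 0 {x : V | x ∈ U ∧ x ≠ 0 ∧ H.h x x = 0} := by
    ext x
    by_cases h : x = 0
    · subst h; simp [H.zero_left]
    · simp [h]
  have hc : Nat.card S = {x : V | x ∈ U ∧ x ≠ 0 ∧ H.h x x = 0}.ncard + 1 := by
    rw [← Set.ncard_insert_of_notMem (a := (0 : V)) (by simp), ← hins]
    rfl
  rw [hc] at heven
  exact (Nat.not_even_iff_odd).mp fun h => by simp [Nat.even_add_one, h] at heven

end Cfsg.Lib.TTUnitary
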