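import Cfsg.Agent.ThreeTransposition.UnitaryRadical.Geometry

/-!
# Involutions of a unitary group over the field with four elements

An involution which is not a transvection has a conjugate with which its product has order above three.
-/

set_option autoImplicit false
set_option linter.unusedSectionVars false

namespace Cfsg.Lib.TTUnitary

open Cfsg.Lib.Classical

universe u v

variable {F : Type u} [Field F] {V : Type v} [AddCommGroup V] [Module F V] {H : HermSpace F V}

theorem apply_apply_of_sq {g : H.SIsom} (hg : g * g = 1) (x : V) : g.1.1 (g.1.1 x) = x := by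
  rw [← H.smul_mul_apply, hg]; rfl

theorem selfadjoint_of_sq {g : H.SIsom} (hg : g * g = 1) (x y : V) :
    H.h (g.1.1 x) y = H.h x (g.1.1 y) := by
  conv_lhs => rw [← apply_apply_of_sq hg y]
  rw [H.map_form]

variable (hq : Four H)
include hq

/-- A non-trivial involution moves some vector `w` by a vector with product one against it. -/
theorem exists_moved_unit {g : H.SIsom} (hg : g * g = 1) (hg1 : g ≠ 1) :
    ∃ w, H.h (g.1.1 w + w) w = 1 := by
  by_contra hc
  push Not at hc
  set B : V → V → F := fun x y => H.h (g.1.1 x + x) y with hB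
  have hsymm : ∀ x y, B x y = H.σ (B y x) := fun x y => by
    simp only [hB]
    rw [← H.symm, H.add_left, H.add_right, selfadjoint_of_sq hg]
  have hdiag : ∀ x, B x x = 0 := fun x => (hq.fixed_cases (hsymm x x).symm).resolve_right (hc x)
  have hpolar : ∀ (θ : F) x y, H.σ θ * B x y + θ * B y x = 0 := fun θ x y => by
    have h0 := hdiag (x + θ • y)
    have h1 := hdiag x
    have h2 := hdiag y
    simp only [hB, map_add, map_smul, H.add_left, H.add_right, H.smul_left, H.smul_right] at h0 h1 h2 ⊢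
    linear_combination h0 - h1 - (θ * H.σ θ) * h2
  obtain ⟨ω, hω⟩ := H.conj.exists_trace_one
  have hzero : ∀ x y, B x y = 0 := fun x y => by
    have h1 := hpolar 1 x y
    rw [map_one, one_mul, one_mul] at h1
    have h2 := hpolar ω x y
    rw [← hq.eq_of_add h1] at h2
    linear_combination h2 - B x y * hω
  refine hg1 (H.sisom_ext fun x => ?_)
  exact hq.eq_of_vadd (H.nondeg _ fun y => H.eq_zero_symm (hzero x y))

variable [Finite F] [FiniteDimensional F V]

/-- Normalised data for a non-trivial involution. -/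
theorem exists_axis {g : H.SIsom} (hg : g * g = 1) (hg1 : g ≠ 1) (P : List V)
    (hP : ∀ p ∈ P, g.1.1 p = p) :
    ∀ w₀, H.h (g.1.1 w₀ + w₀) w₀ = 1 → (∀ p ∈ P, H.h w₀ p = 0) →
      ∃ w v, H.h w w = 0 ∧ H.h v v = 0 ∧ H.h v w = 1 ∧ g.1.1 w = w + v ∧ g.1.1 v = v ∧
        (∀ p ∈ P, H.h w p = 0) ∧ (∀ p ∈ P, H.h v p = 0) ∧
        (tv hq v * g) * (tv hq v * g) = 1 ∧ (tv hq v * g).1.1 w = w ∧ (tv hq v * g).1.1 v = v := by
  intro w₀ hw₀ hw₀P
  obtain ⟨ω, hω⟩ := H.conj.exists_trace_one
  set v := g.1.1 w₀ + w₀ with hv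
  have hgv : g.1.1 v = v := by rw [hv, map_add, apply_apply_of_sq hg, add_comm]
  have hvv : H.h v v = 0 := by
    calc H.h v v = H.h (g.1.1 w₀) v + H.h w₀ v := by rw [← H.add_left, ← hv]
      _ = 0 := by rw [selfadjoint_of_sq hg, hgv]; exact hq.add_self _
  clear_value v
  set n := H.h w₀ w₀ with hn
  set w := w₀ + (n * ω) • v with hw
  have hgw : g.1.1 w = w + v := by
    have : g.1.1 w₀ = w₀ + v := by rw [hv, add_comm (g.1.1 w₀), ← add_assoc, hq.vadd_self, zero_add]
    rw [hw, map_add, map_smul, hgv, this]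
    abel
  have hvw : H.h v w = 1 := by rw [hw, H.add_right, H.smul_right, hw₀, hvv, mul_zero, add_zero]
  have hww : H.h w w = 0 := by
    have hσn : H.σ n = n := H.self_fixed w₀
    have hw₀v : H.h w₀ v = 1 := by rw [H.symm, hw₀, map_one]
    simp only [hw, H.add_left, H.add_right, H.smul_left, H.smul_right, ← hn, hvv, hw₀, hw₀v, map_mul, hσn]
    linear_combination n * hω + n * hq.two
  have hPv : ∀ p ∈ P, H.h v p = 0 := fun p hp => by
    rw [hv, H.add_left, selfadjoint_of_sq hg, hP p hp]; exact hq.add_self _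
  have hgtv : Commute g (tv hq v) := tv_commute_of_fix hq g hvv hgv
  refine ⟨w, v, hww, hvv, hvw, hgw, hgv, fun p hp => ?_, hPv, ?_, ?_, ?_⟩
  · rw [hw, H.add_left, H.smul_left, hw₀P p hp, hPv p hp, mul_zero, add_zero]
  · rw [hgtv.mul_mul_mul_comm, tv_sq hq hvv, hg, one_mul]
  · have hwv : H.h w v = 1 := by rw [H.symm, hvw, map_one]
    rw [H.smul_mul_apply, hgw, map_add, tv_fix hq hvv hvv, tv_move hq hvv hwv, hq.vadd_cancel]
  · rw [H.smul_mul_apply, hgv, tv_fix hq hvv hvv]

/-- An involution all whose conjugates multiply with it to order at most three is a transvection. -/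
theorem exists_eq_tv {g : H.SIsom} (hg : g * g = 1) (hg1 : g ≠ 1)
    (h3 : ∀ x : H.SIsom, (g * (x * g * x⁻¹)) ^ 2 = 1 ∨ (g * (x * g * x⁻¹)) ^ 3 = 1) :
    ∃ v, v ≠ 0 ∧ H.h v v = 0 ∧ g = tv hq v := by
  obtain ⟨w₀, hw₀⟩ := exists_moved_unit hq hg hg1
  obtain ⟨w, v, hww, hvv, hvw, hgw, hgv, -, -, hg', hg'w, hg'v⟩ :=
    exists_axis hq hg hg1 [] (by simp) w₀ hw₀ (by simp)
  have hv0 : v ≠ 0 := fun e => by rw [e, H.zero_left] at hvw; exact zero_ne_one hvw
  by_cases hg'1 : tv hq v * g = 1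
  · exact ⟨v, hv0, hvv, by rw [← inv_eq_of_mul_eq_one_right hg'1, tv_inv hq hvv]⟩
  exfalso
  set g' := tv hq v * g with hg'def
  obtain ⟨z₀, hz₀⟩ := exists_moved_unit hq hg' hg'1
  have hwv : H.h w v = 1 := by rw [H.symm, hvw, map_one]
  set z := z₀ + H.h z₀ w • v + H.h z₀ v • w with hz
  have hN : g'.1.1 z + z = g'.1.1 z₀ + z₀ := by
    rw [hz, map_add, map_add, map_smul, map_smul, hg'v, hg'w]
    calc _ = (g'.1.1 z₀ + z₀) + ((H.h z₀ w • v + H.h z₀ v • w) + (H.h z₀ w • v + H.h z₀ v • w)) := by abel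
      _ = _ := by rw [hq.vadd_self, add_zero]
  have hNP : ∀ p, g'.1.1 p = p → H.h (g'.1.1 z₀ + z₀) p = 0 := fun p hp => by
    rw [H.add_left, selfadjoint_of_sq hg', hp]; exact hq.add_self _
  have hz1 : H.h (g'.1.1 z + z) z = 1 := by
    rw [hN]
    simp only [hz, H.add_right, H.smul_right, hNP v hg'v, hNP w hg'w, hz₀, mul_zero, add_zero]
  have hzP : ∀ p ∈ [v, w], H.h z p = 0 := by
    intro p hp
    simp only [List.mem_cons, List.mem_singleton, List.not_mem_nil, or_false] at hp
    rcases hp with rfl | rfl <;>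
      rw [hz, H.add_left, H.add_left, H.smul_left, H.smul_left]
    · rw [hvv, hwv, mul_zero, add_zero, mul_one]; exact hq.add_self _
    · rw [hvw, hww, mul_zero, add_zero, mul_one]; exact hq.add_self _
  obtain ⟨w₂, v₂, hww₂, hvv₂, hvw₂, -, -, hw₂P, hv₂P, hR, hRw₂, hRv₂⟩ :=
    exists_axis hq hg' hg'1 [v, w] (by simp [hg'v, hg'w]) z hz1 hzP
  have a1 : H.h w₂ v = 0 := hw₂P v (by simp)
  have a2 : H.h w₂ w = 0 := hw₂P w (by simp)
  have a3 : H.h v₂ v = 0 := hv₂P v (by simp)
  have a4 : H.h v₂ w = 0 := hv₂P w (by simp)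
  have a1' := H.eq_zero_symm a1
  have a2' := H.eq_zero_symm a2
  have a3' := H.eq_zero_symm a3
  have a4' := H.eq_zero_symm a4
  have hwv₂ : H.h w₂ v₂ = 1 := by rw [H.symm, hvw₂, map_one]
  set R := tv hq v₂ * g' with hRdef
  have hRv : R.1.1 v = v := by rw [hRdef, H.smul_mul_apply, hg'v, tv_fix hq hvv₂ a3']
  have hRw : R.1.1 w = w := by rw [hRdef, H.smul_mul_apply, hg'w, tv_fix hq hvv₂ a4']
  have hgR : g = tv hq v * tv hq v₂ * R := by
    rw [hRdef, hg'def, mul_assoc, ← mul_assoc (tv hq v₂) (tv hq v₂), tv_sq hq hvv₂, one_mul,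
      ← mul_assoc, tv_sq hq hvv, one_mul]
  -- the conjugating element
  have e1 : H.h (v + w) (v + w) = 0 := by
    rw [H.add_left, H.add_right, H.add_right, hvv, hww, hvw, hwv]; linear_combination hq.two
  have e2 : H.h (v₂ + w₂) (v₂ + w₂) = 0 := by
    rw [H.add_left, H.add_right, H.add_right, hvv₂, hww₂, hvw₂, hwv₂]; linear_combination hq.two
  have e3 : H.h (w + w₂) (w + w₂) = 0 := by
    rw [H.add_left, H.add_right, H.add_right, hww, hww₂, a2, a2']; ring
  set y := H.sR hww₂ hvv a1' 1 with hydef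
  set x := y * (tv hq (v + w) * tv hq (v₂ + w₂)) with hxdef
  have hy : ∀ t, y.1.1 t = t + H.h t v • w₂ + H.h t w₂ • v := fun t => by
    rw [hydef, H.sR_apply, map_one, one_mul, one_mul, sub_eq_iff_eq_add, hq.vadd_cancel]
  have hxv : x.1.1 v = w + w₂ := by
    rw [hxdef, H.smul_mul_apply, H.smul_mul_apply,
      tv_fix hq e2 (by rw [H.add_right, a3', a1', add_zero]),
      tv_move hq e1 (by rw [H.add_right, hvv, hvw, zero_add]), ← add_assoc, hq.vadd_self, zero_add,
      hy, hwv, a2', one_smul, zero_smul, add_zero]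
  have hxv₂ : x.1.1 v₂ = w₂ := by
    rw [hxdef, H.smul_mul_apply, H.smul_mul_apply,
      tv_move hq e2 (by rw [H.add_right, hvv₂, hvw₂, zero_add]), ← add_assoc, hq.vadd_self, zero_add,
      tv_fix hq e1 (by rw [H.add_right, a1, a2, add_zero]), hy, a1, hww₂, zero_smul, zero_smul, add_zero,
      add_zero]
  have hxR : Commute x R := by
    have c1 : Commute R (tv hq (v + w)) := tv_commute_of_fix hq R e1 (by rw [map_add, hRv, hRw])
    have c2 : Commute R (tv hq (v₂ + w₂)) := tv_commute_of_fix hq R e2 (by rw [map_add, hRv₂, hRw₂])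
    have c3 : Commute R y := by
      have h := H.sR_conj R hww₂ hvv a1' 1
      refine mul_inv_eq_iff_eq_mul.mp (h.trans ?_)
      exact H.sR_congr _ _ _ _ _ _ hRw₂ hRv rfl
    exact (c3.symm.mul_left (c1.symm.mul_left c2.symm))
  have hconj : x * g * x⁻¹ = tv hq (w + w₂) * tv hq w₂ * R := by
    calc x * g * x⁻¹ = (x * tv hq v * x⁻¹) * (x * tv hq v₂ * x⁻¹) * (x * R * x⁻¹) := by
          rw [hgR]; group
      _ = _ := by rw [tv_conj hq x hvv, tv_conj hq x hvv₂, hxv, hxv₂, hxR.eq, mul_inv_cancel_right]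
  set M := g * (x * g * x⁻¹) with hM
  have hM' : M = tv hq v * tv hq v₂ * (tv hq (w + w₂) * tv hq w₂) := by
    have c1 : Commute R (tv hq (w + w₂)) := tv_commute_of_fix hq R e3 (by rw [map_add, hRw, hRw₂])
    have c2 : Commute R (tv hq w₂) := tv_commute_of_fix hq R hww₂ hRw₂
    rw [hM, hconj, hgR, mul_assoc (tv hq v * tv hq v₂) R, ← mul_assoc R (tv hq (w + w₂) * tv hq w₂) R,
      (c1.mul_right c2).eq, mul_assoc _ R R, hR, mul_one]
  have m1 : M.1.1 w = w + v := by
    rw [hM', H.smul_mul_apply, H.smul_mul_apply, H.smul_mul_apply, tv_fix hq hww₂ a2',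
      tv_fix hq e3 (by rw [H.add_right, hww, a2', add_zero]), tv_fix hq hvv₂ a4', tv_move hq hvv hwv]
  have m2 : M.1.1 v = w + w₂ + v₂ := by
    rw [hM', H.smul_mul_apply, H.smul_mul_apply, H.smul_mul_apply, tv_fix hq hww₂ a1',
      tv_move hq e3 (by rw [H.add_right, hvw, a1', add_zero]),
      tv_move hq hvv₂ (by rw [H.add_left, H.add_left, a3', a4', hwv₂, zero_add, zero_add]),
      tv_move hq hvv (by rw [H.add_left, H.add_left, H.add_left, hvv, hwv, a1, a3, zero_add, add_zero,
        add_zero])]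
    calc v + (w + w₂) + v₂ + v = (w + w₂ + v₂) + (v + v) := by abel
      _ = _ := by rw [hq.vadd_self, add_zero]
  have m3 : M.1.1 w₂ = w₂ + v₂ := by
    rw [hM', H.smul_mul_apply, H.smul_mul_apply, H.smul_mul_apply, tv_fix hq hww₂ hww₂,
      tv_fix hq e3 (by rw [H.add_right, a2, hww₂, add_zero]), tv_move hq hvv₂ hwv₂,
      tv_fix hq hvv (by rw [H.add_left, a1, a3, add_zero])]
  have m4 : M.1.1 v₂ = v₂ + w + v := by
    rw [hM', H.smul_mul_apply, H.smul_mul_apply, H.smul_mul_apply, tv_move hq hww₂ hvw₂,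
      tv_move hq e3 (by rw [H.add_left, H.add_right, H.add_right, a4, hvw₂, a2, hww₂]; ring),
      show v₂ + w₂ + (w + w₂) = v₂ + w by
        calc v₂ + w₂ + (w + w₂) = v₂ + w + (w₂ + w₂) := by abel
          _ = _ := by rw [hq.vadd_self, add_zero],
      tv_fix hq hvv₂ (by rw [H.add_left, hvv₂, a4', add_zero]),
      tv_move hq hvv (by rw [H.add_left, a3, hwv, zero_add])]
  rcases h3 x with h | h
  · have h' : M.1.1 (M.1.1 w) = w := by
      rw [← H.smul_mul_apply, ← pow_two, h]; rfl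
    rw [m1, map_add, m1, m2] at h'
    have := congrArg (fun t => H.h t v) h'
    simp only [H.add_left, hwv, hvv, a1, a3, add_zero] at this
    exact one_ne_zero (α := F) (by linear_combination this)
  · have h' : M.1.1 (M.1.1 (M.1.1 w)) = w := by
      rw [← H.smul_mul_apply, ← H.smul_mul_apply, ← pow_three', h]; rfl
    rw [m1, map_add, m1, m2, map_add, map_add, map_add, map_add, m1, m2, m3, m4] at h'
    have := congrArg (fun t => H.h t w₂) h'
    simp only [H.add_left, a2', a1', hww₂, hvw₂, zero_add, add_zero] at this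
    exact one_ne_zero (α := F) (by linear_combination this - hq.two)

end Cfsg.Lib.TTUnitary
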